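import Cfsg.Agent.Lib.H16.U62M.Base

set_option autoImplicit false
set_option maxRecDepth 100000

/-! # The exact relators `PE` of the cover of `U6(2)` cut into chunks (generated) -/

namespace Cfsg.Agent.Lib.H17.U62M

open Cfsg.Agent.Lib.H16.U62M

/-- the words of `PE`, in chunks -/
def peC : List (List (List ℕ)) :=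
  [[[0, 0, 0, 0, 0, 0, 0, 0, 0, 0, 0], [2, 2, 2, 2, 2, 2, 2, 2, 2, 2, 2], [4, 4, 4, 4, 4, 4, 4, 4, 4, 4, 4], [0, 2, 0, 2, 0, 2, 0, 2], [0, 3, 0, 3, 0, 3, 0, 3, 0, 3], [0, 2, 1, 3, 0, 2, 1, 3, 0, 2, 1, 3], [0, 0, 0, 0, 2, 2, 1, 1, 3, 3, 3, 3, 0, 3], [0, 0, 0, 0, 3, 0, 3, 3, 3, 3, 1, 1, 2, 2], [0, 0, 0, 2, 1, 2, 1, 2, 1, 3, 3, 3, 1, 1, 2, 2], [0, 0, 0, 2, 2, 1, 1, 3, 3, 3, 1, 2, 1, 2, 1, 2], [0, 0, 2, 0, 2, 0, 2, 0, 0, 3, 0, 3, 0, 3, 0, 3], [0, 0, 2, 0, 2, 0, 2, 2, 0, 3, 1, 2, 0, 3, 1, 2], [0, 0, 2, 1, 3, 0, 2, 1, 3, 0, 2, 2, 0, 2, 0, 2], [0, 0, 2, 1, 3, 3, 1, 1, 3, 3, 1, 2, 0, 0, 2, 2], [0, 0, 3, 1, 2, 1, 2,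 0, 3, 3, 0, 2, 1, 2, 1, 3], [0, 2, 0, 2, 0, 2, 2, 1, 2, 1, 2, 1, 2, 1, 2, 2], [0, 0, 0, 0, 0, 0, 0, 0, 0, 0, 3, 1, 3, 1, 3, 1, 3], [0, 0, 0, 0, 0, 0, 0, 2, 1, 2, 2, 2, 2, 0, 0, 3, 3], [0, 0, 0, 0, 0, 0, 0, 3, 3, 0, 0, 2, 2, 2, 2, 1, 2], [0, 0, 0, 0, 2, 2, 1, 1, 2, 2, 2, 2, 2, 2, 2, 0, 3], [0, 0, 0, 0, 3, 0, 2, 2, 2, 2, 2, 2, 2, 1, 1, 2, 2], [0, 2, 0, 2, 0, 2, 0, 3, 3, 3, 3, 3, 3, 3, 3, 3, 3], [0, 0, 0, 0, 0, 2, 1, 3, 1, 2, 0, 2, 1, 3, 3, 3, 3, 3], [0, 0, 0, 0, 0, 3, 3, 3, 3, 3, 1, 2, 0, 2, 1, 3, 1, 2], [0, 0, 0, 0, 2, 2, 1, 2, 0, 2, 0, 2, 0, 3, 3, 3, 0, 3], [0, 0, 0, 0, 3, 0, 3, 3, 3, 0, 2, 0, 2, 0, 2, 1,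 2, 2], [0, 0, 0, 2, 0, 2, 1, 1, 2, 1, 1, 1, 3, 1, 3, 0, 0, 3], [0, 0, 0, 2, 0, 2, 1, 1, 2, 1, 1, 2, 0, 2, 0, 0, 0, 3], [0, 0, 0, 3, 0, 3, 3, 3, 3, 1, 1, 2, 1, 3, 1, 3, 1, 3], [0, 0, 0, 3, 1, 3, 1, 3, 1, 2, 1, 1, 3, 3, 3, 3, 0, 3], [0, 0, 2, 1, 3, 1, 2, 1, 2, 1, 3, 1, 2, 0, 0, 3, 0, 3], [0, 0, 2, 1, 3, 3, 0, 3, 0, 3, 3, 1, 2, 0, 0, 3, 0, 3], [0, 0, 3, 0, 0, 3, 0, 0, 3, 0, 0, 3, 0, 0, 3, 0, 0, 3], [0, 0, 3, 0, 3, 0, 3, 0, 3, 3, 0, 2, 1, 3, 0, 2, 1, 3], [0, 0, 3, 0, 3, 0, 3, 3, 0, 0, 3, 1, 2, 1, 2, 0, 3, 3], [0, 0, 3, 1, 2, 0, 3, 1, 2, 0, 3, 3, 0, 3, 0, 3, 0, 3], [0, 0, 3, 3, 0, 2, 1, 2, 1, 3, 0, 0, 3, 3, 0,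 3, 0, 3]],
   [[0, 2, 0, 2, 2, 2, 1, 2, 2, 1, 3, 1, 3, 3, 3, 0, 3, 3], [0, 2, 0, 2, 2, 2, 1, 2, 2, 2, 0, 2, 0, 3, 3, 0, 3, 3], [0, 2, 0, 3, 0, 3, 0, 2, 0, 3, 1, 3, 0, 3, 0, 3, 1, 3], [0, 2, 1, 2, 1, 2, 0, 2, 1, 3, 3, 0, 3, 0, 3, 3, 1, 2], [0, 3, 3, 0, 3, 3, 0, 3, 3, 0, 3, 3, 0, 3, 3, 0, 3, 3], [0, 0, 0, 0, 0, 0, 0, 0, 0, 0, 2, 1, 2, 1, 2, 1, 2, 1, 2], [0, 0, 0, 0, 0, 0, 2, 2, 2, 2, 2, 0, 3, 1, 3, 0, 2, 0, 3], [0, 0, 0, 0, 0, 0, 3, 0, 2, 0, 3, 1, 3, 0, 2, 2, 2, 2, 2], [0, 0, 0, 0, 0, 2, 1, 3, 1, 2, 0, 2, 1, 2, 2, 2, 2, 2, 2], [0, 0, 0, 0, 0, 2, 2, 2, 2, 2, 2, 1, 2, 0, 2, 1, 3, 1, 2], [0, 2, 2, 2, 2, 2, 2, 2,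 2, 2, 2, 0, 3, 0, 3, 0, 3, 0, 3], [0, 0, 0, 0, 0, 0, 0, 2, 1, 3, 3, 3, 3, 3, 3, 3, 0, 0, 3, 3], [0, 0, 0, 0, 0, 0, 0, 3, 3, 0, 0, 3, 3, 3, 3, 3, 3, 3, 1, 2], [0, 0, 0, 0, 0, 2, 0, 2, 0, 2, 0, 0, 3, 3, 3, 3, 1, 1, 2, 2], [0, 0, 0, 0, 0, 2, 1, 3, 1, 1, 3, 1, 3, 1, 1, 3, 3, 3, 3, 3], [0, 0, 0, 0, 0, 2, 2, 0, 2, 0, 2, 2, 0, 2, 1, 3, 3, 3, 3, 3], [0, 0, 0, 0, 0, 2, 2, 1, 1, 3, 3, 3, 3, 0, 0, 2, 0, 2, 0, 2], [0, 0, 0, 0, 0, 3, 3, 3, 3, 3, 1, 1, 3, 1, 3, 1, 1, 3, 1, 2], [0, 0, 0, 0, 0, 3, 3, 3, 3, 3, 1, 2, 0, 2, 2, 0, 2, 0, 2, 2], [0, 0, 0, 0, 2, 0, 3, 0, 3, 0, 3, 0, 3, 1, 3, 3, 3, 3, 0, 3], [0, 0, 0, 0, 2, 1, 3,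 1, 3, 1, 3, 1, 1, 1, 3, 3, 3, 3, 0, 3], [0, 0, 0, 0, 2, 2, 0, 0, 3, 0, 3, 3, 3, 3, 1, 1, 3, 3, 0, 3], [0, 0, 0, 0, 2, 2, 1, 1, 1, 2, 1, 1, 1, 1, 3, 3, 0, 0, 0, 3], [0, 0, 0, 0, 2, 2, 1, 1, 3, 0, 2, 0, 2, 0, 2, 0, 3, 3, 0, 3], [0, 0, 0, 0, 2, 2, 1, 1, 3, 3, 0, 2, 0, 2, 0, 2, 0, 3, 0, 3], [0, 0, 0, 0, 2, 2, 1, 1, 3, 3, 3, 3, 3, 1, 3, 1, 3, 1, 3, 3], [0, 0, 0, 0, 2, 2, 2, 0, 2, 0, 2, 0, 2, 1, 3, 3, 3, 3, 0, 3], [0, 0, 0, 0, 3, 0, 0, 2, 0, 2, 0, 2, 0, 3, 3, 3, 1, 1, 2, 2], [0, 0, 0, 0, 3, 0, 3, 0, 2, 0, 2, 0, 2, 0, 3, 3, 1, 1, 2, 2], [0, 0, 0, 0, 3, 0, 3, 3, 0, 2, 0, 2, 0, 2, 0, 3, 1, 1, 2, 2]],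
   [[0, 0, 0, 0, 3, 0, 3, 3, 1, 1, 3, 3, 3, 3, 0, 3, 0, 0, 2, 2], [0, 0, 0, 0, 3, 0, 3, 3, 3, 3, 1, 1, 1, 3, 1, 3, 1, 3, 1, 2], [0, 0, 0, 0, 3, 0, 3, 3, 3, 3, 1, 2, 0, 2, 0, 2, 0, 2, 2, 2], [0, 0, 0, 0, 3, 0, 3, 3, 3, 3, 1, 3, 0, 3, 0, 3, 0, 3, 0, 2], [0, 0, 0, 0, 3, 3, 1, 3, 1, 3, 1, 3, 3, 3, 3, 3, 1, 1, 2, 2], [0, 0, 0, 2, 0, 2, 0, 2, 2, 1, 2, 0, 3, 3, 0, 2, 1, 2, 1, 3], [0, 0, 0, 2, 1, 2, 1, 2, 1, 3, 3, 0, 2, 0, 2, 0, 2, 1, 2, 2], [0, 0, 0, 2, 2, 1, 1, 3, 3, 3, 3, 0, 3, 3, 1, 3, 1, 3, 1, 3], [0, 0, 0, 2, 2, 1, 2, 0, 2, 0, 2, 0, 3, 3, 1, 2, 1, 2, 1, 2], [0, 0, 0, 3, 1, 2, 1, 2, 0, 3, 3, 0, 2, 1, 2, 2, 0,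 2, 0, 2], [0, 0, 0, 3, 1, 3, 1, 3, 1, 3, 3, 0, 3, 3, 3, 3, 1, 1, 2, 2], [0, 0, 2, 0, 2, 0, 0, 2, 0, 3, 0, 3, 0, 2, 0, 3, 1, 3, 0, 3], [0, 0, 2, 0, 2, 0, 0, 3, 0, 3, 1, 3, 0, 2, 0, 3, 0, 3, 0, 2], [0, 0, 2, 0, 2, 0, 2, 1, 1, 3, 3, 0, 0, 2, 2, 2, 0, 3, 0, 3], [0, 0, 2, 0, 2, 0, 2, 2, 2, 1, 3, 0, 3, 0, 2, 1, 1, 2, 0, 3], [0, 0, 2, 0, 2, 1, 3, 0, 2, 0, 2, 1, 3, 1, 3, 0, 2, 2, 0, 2], [0, 0, 2, 0, 2, 1, 3, 0, 2, 0, 2, 2, 0, 2, 0, 0, 2, 2, 0, 2], [0, 0, 2, 0, 2, 1, 3, 0, 2, 2, 0, 2, 0, 3, 1, 1, 3, 0, 2, 2], [0, 0, 2, 0, 2, 1, 3, 1, 3, 3, 1, 1, 3, 1, 3, 3, 1, 3, 1, 2], [0, 0, 2, 0, 2, 1, 3, 1, 3, 3, 1, 2, 0, 2, 0,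 0, 2, 0, 2, 2], [0, 0, 2, 0, 2, 1, 3, 1, 3, 3, 1, 2, 0, 2, 0, 3, 1, 3, 1, 2], [0, 0, 2, 0, 2, 1, 3, 3, 1, 1, 3, 0, 2, 0, 2, 2, 0, 0, 2, 2], [0, 0, 2, 0, 2, 1, 3, 3, 1, 1, 3, 3, 1, 3, 1, 2, 0, 0, 2, 2], [0, 0, 2, 0, 2, 1, 3, 3, 1, 2, 0, 0, 2, 1, 3, 1, 3, 3, 1, 2], [0, 0, 2, 0, 2, 1, 3, 3, 1, 2, 0, 0, 2, 2, 0, 2, 0, 3, 1, 2], [0, 0, 2, 0, 2, 1, 3, 3, 1, 3, 1, 2, 0, 2, 0, 0, 2, 2, 0, 2], [0, 0, 2, 0, 2, 2, 0, 0, 2, 0, 2, 2, 0, 0, 2, 1, 3, 0, 2, 2], [0, 0, 2, 0, 2, 2, 0, 0, 2, 0, 2, 2, 0, 2, 0, 3, 1, 2, 0, 2], [0, 0, 2, 0, 2, 2, 0, 0, 2, 1, 3, 0, 2, 2, 0, 3, 1, 3, 1, 2], [0, 0, 2, 0, 2, 2, 0, 2, 0, 3, 1, 1, 3,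 1, 3, 0, 2, 0, 2, 2]],
   [[0, 0, 2, 0, 2, 2, 0, 2, 0, 3, 1, 2, 0, 2, 0, 3, 1, 3, 1, 2], [0, 0, 2, 0, 2, 2, 0, 3, 1, 3, 1, 2, 0, 0, 2, 1, 3, 0, 2, 2], [0, 0, 2, 0, 2, 2, 0, 3, 1, 3, 1, 2, 0, 2, 0, 3, 1, 2, 0, 2], [0, 0, 2, 1, 2, 1, 2, 1, 3, 3, 3, 1, 1, 2, 1, 3, 1, 3, 1, 3], [0, 0, 2, 1, 3, 0, 2, 0, 2, 2, 0, 0, 2, 1, 3, 3, 1, 2, 0, 2], [0, 0, 2, 1, 3, 0, 2, 2, 0, 3, 1, 1, 3, 0, 2, 1, 3, 3, 1, 2], [0, 0, 2, 1, 3, 0, 2, 2, 0, 3, 1, 3, 1, 2, 0, 3, 1, 3, 1, 2], [0, 0, 2, 1, 3, 1, 2, 1, 2, 2, 0, 2, 0, 2, 2, 0, 0, 3, 0, 3], [0, 0, 2, 1, 3, 1, 3, 0, 2, 0, 2, 1, 3, 0, 2, 0, 2, 2, 0, 2], [0, 0, 2, 1, 3, 1, 3, 0, 2,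 1, 3, 1, 3, 0, 2, 2, 0, 3, 1, 2], [0, 0, 2, 1, 3, 1, 3, 0, 2, 2, 0, 2, 0, 0, 2, 2, 0, 3, 1, 2], [0, 0, 2, 1, 3, 1, 3, 0, 2, 2, 0, 3, 1, 2, 0, 0, 2, 2, 0, 2], [0, 0, 2, 1, 3, 1, 3, 1, 3, 0, 2, 1, 3, 3, 1, 1, 3, 3, 1, 2], [0, 0, 2, 1, 3, 1, 3, 1, 3, 3, 1, 1, 3, 3, 1, 1, 3, 0, 2, 2], [0, 0, 2, 1, 3, 1, 3, 3, 1, 1, 3, 3, 1, 2, 0, 2, 0, 0, 2, 2], [0, 0, 2, 1, 3, 3, 1, 1, 3, 1, 3, 0, 2, 1, 3, 3, 1, 3, 1, 2], [0, 0, 2, 1, 3, 3, 1, 1, 3, 3, 1, 2, 0, 3, 1, 3, 1, 3, 1, 2], [0, 0, 2, 1, 3, 3, 1, 2, 0, 2, 0, 0, 2, 1, 3, 3, 1, 3, 1, 2], [0, 0, 2, 2, 0, 2, 0, 0, 2, 2, 0, 2, 0, 0, 2, 2, 0, 3, 1, 2], [0, 0, 2, 2, 0, 2, 0,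 2, 2, 1, 2, 1, 3, 1, 2, 0, 0, 3, 0, 3], [0, 0, 2, 2, 1, 1, 3, 3, 3, 1, 2, 1, 2, 1, 1, 3, 1, 3, 1, 3], [0, 0, 2, 2, 2, 2, 1, 2, 1, 1, 2, 0, 2, 0, 2, 0, 2, 1, 3, 3], [0, 0, 2, 2, 2, 2, 1, 2, 2, 2, 1, 1, 3, 3, 3, 3, 0, 3, 3, 3], [0, 0, 3, 0, 2, 0, 2, 0, 2, 1, 1, 3, 0, 3, 0, 3, 0, 2, 2, 2], [0, 0, 3, 0, 2, 1, 1, 2, 0, 3, 0, 3, 1, 2, 2, 2, 0, 2, 0, 2], [0, 0, 3, 0, 3, 0, 3, 3, 0, 0, 3, 3, 0, 3, 0, 3, 0, 0, 3, 3], [0, 0, 3, 0, 3, 3, 0, 0, 3, 0, 3, 3, 0, 3, 0, 0, 3, 3, 0, 3], [0, 0, 3, 1, 2, 0, 3, 1, 2, 1, 2, 0, 3, 0, 3, 1, 2, 2, 1, 3], [0, 0, 3, 1, 2, 1, 2, 0, 3, 0, 3, 1, 2, 0, 3, 1, 2, 2, 1, 3], [0, 0, 3, 1, 2,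 2, 1, 3, 0, 2, 1, 3, 0, 3, 0, 2, 1, 2, 1, 3]],
   [[0, 0, 3, 1, 3, 1, 3, 1, 3, 0, 2, 2, 1, 1, 3, 3, 3, 3, 0, 3], [0, 0, 3, 3, 0, 0, 3, 3, 0, 0, 3, 3, 0, 0, 3, 3, 0, 0, 3, 3], [0, 2, 0, 2, 2, 0, 2, 1, 2, 1, 2, 0, 2, 1, 3, 1, 2, 1, 2, 2], [0, 2, 0, 2, 2, 1, 2, 1, 3, 1, 2, 0, 2, 1, 2, 1, 2, 0, 2, 2], [0, 2, 0, 3, 0, 3, 1, 3, 0, 3, 0, 2, 0, 3, 0, 3, 1, 3, 0, 3], [0, 0, 0, 0, 0, 0, 0, 0, 0, 0, 0], [2, 0, 0, 3, 1, 1, 1, 2, 0, 3, 0, 3, 3, 3, 2, 0, 0, 3, 1, 1, 1, 2, 0, 3, 0, 3, 3, 3, 2, 0, 0, 3, 1, 1, 1, 2, 0, 3, 0, 3, 3, 3, 2, 0, 0, 3, 1, 1, 1, 2, 0, 3, 0, 3, 3, 3, 2, 0, 0, 3, 1, 1, 1, 2, 0, 3, 0, 3, 3, 3], [2, 0,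 0, 3, 1, 1, 1, 2, 0, 3, 0, 3, 3, 3, 0, 2, 2, 2, 1, 2, 1, 3, 0, 0, 0, 2, 1, 1, 3, 1, 1, 1], [2, 2, 2, 2, 2, 2, 2, 2, 2, 2, 2], [0, 2, 0, 2, 0, 2, 0, 2], [0, 3, 0, 3, 0, 3, 0, 3, 0, 3], [0, 2, 1, 3, 0, 2, 1, 3, 0, 2, 1, 3], [0, 0, 2, 2, 2, 2, 1, 2, 2, 2, 2, 1, 2, 1, 3, 0, 0, 0, 2, 1, 1, 3, 1, 2, 0, 0, 3, 1, 1, 1, 2, 0, 3, 0, 3, 3, 3, 3, 3], [0, 2, 2, 2, 1, 2, 1, 3, 0, 0, 0, 2, 1, 1, 3, 2, 2, 2, 2, 1, 2, 1, 3, 0, 0, 0, 2, 1, 1, 3, 2, 2, 0, 0, 3, 1, 1, 1, 2, 0, 3, 0, 3, 3, 3, 3, 2, 2, 2, 1, 2, 1, 3, 0, 0, 0, 2, 1, 1, 3, 2, 1, 2, 2, 2, 0, 0, 3, 1, 1, 1, 2, 0, 3, 0, 3, 3, 3], [0, 0, 3, 3, 2, 2, 2, 1, 2, 1, 3, 0,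 0, 0, 2, 1, 1, 3, 1, 2, 0, 0, 3, 1, 1, 1, 2, 0, 3, 0, 3, 3, 3, 2, 1, 2, 2, 2, 2], [0, 0, 2, 0, 0, 3, 1, 1, 1, 2, 0, 3, 0, 3, 3, 3, 3, 3, 3, 0, 2, 2, 2, 2, 1, 2, 1, 3, 0, 0, 0, 2, 1, 1, 3, 0, 2, 2, 0, 2], [0, 0, 2, 1, 2, 2, 2, 2, 1, 2, 1, 3, 0, 0, 0, 2, 1, 1, 3, 2, 2, 2, 1, 2, 1, 3, 0, 0, 0, 2, 1, 1, 3, 2, 0, 2, 2, 2, 1, 2, 1, 3, 0, 0, 0, 2, 1, 1, 3, 2, 2, 2, 1, 2, 1, 3, 0, 0, 0, 2, 1, 1, 3, 2, 2, 0, 0, 3, 1, 1, 1, 2, 0, 3, 0, 3, 3, 3, 2], [0, 0, 2, 2, 0, 0, 3, 1, 1, 1, 2, 0, 3, 0, 3, 3, 3, 2, 0, 0, 3, 1, 1, 1, 2, 0, 3, 0, 3, 3, 3, 2, 2, 2, 0, 0, 3, 1, 1, 1, 2, 0, 3, 0, 3, 3, 3, 0, 2, 0, 0, 3, 1, 1, 1, 2, 0,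 3, 0, 3, 3, 3, 3, 1, 1, 3]],
   [[0, 2, 2, 2, 1, 2, 1, 3, 0, 0, 0, 2, 1, 1, 3, 0, 2, 0, 2, 2, 1, 2, 0, 0, 3, 1, 1, 1, 2, 0, 3, 0, 3, 3, 3, 2, 0, 3, 3, 3], [0, 0, 2, 1, 1, 3, 2, 0, 0, 3, 1, 1, 1, 2, 0, 3, 0, 3, 3, 3, 0, 2, 0, 0, 3, 1, 1, 1, 2, 0, 3, 0, 3, 3, 3, 3, 3, 2, 0, 0, 3, 1, 1, 1, 2, 0, 3, 0, 3, 3, 3, 2, 0, 0, 3, 1, 1, 1, 2, 0, 3, 0, 3, 3, 3, 2], [0, 2, 0, 0, 3, 1, 1, 1, 2, 0, 3, 0, 3, 3, 3, 1, 3, 3, 0, 2, 0, 3, 3, 1, 2, 2, 2, 1, 2, 1, 3, 0, 0, 0, 2, 1, 1, 3, 2, 2, 2, 1, 2, 1, 3, 0, 0, 0, 2, 1, 1, 3, 2, 2, 0, 0, 3, 1, 1, 1, 2, 0, 3, 0, 3, 3, 3], [0, 0, 2, 2, 2, 1, 2, 1, 3, 0, 0, 0, 2, 1, 1, 3, 2, 2,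 2, 1, 2, 1, 3, 0, 0, 0, 2, 1, 1, 3, 2, 2, 1, 2, 2, 0, 0, 3, 1, 1, 1, 2, 0, 3, 0, 3, 3, 3, 0, 3, 3, 1, 1, 3], [0, 2, 2, 2, 1, 2, 1, 3, 0, 0, 0, 2, 1, 1, 3, 2, 2, 2, 1, 2, 1, 3, 0, 0, 0, 2, 1, 1, 3, 3, 3, 0, 3, 1, 2, 0, 0, 3, 1, 1, 1, 2, 0, 3, 0, 3, 3, 3, 2, 0, 0, 3, 1, 1, 1, 2, 0, 3, 0, 3, 3, 3, 3, 3, 2, 2, 2, 1, 2, 1, 3, 0, 0, 0, 2, 1, 1, 3, 2, 2], [0, 0, 2, 2, 2, 1, 2, 1, 3, 0, 0, 0, 2, 1, 1, 3, 2, 2, 0, 0, 3, 1, 1, 1, 2, 0, 3, 0, 3, 3, 3, 3, 2, 0, 0, 3, 1, 1, 1, 2, 0, 3, 0, 3, 3, 3, 3, 0, 3, 2, 2, 2, 1, 2, 1, 3, 0, 0, 0, 2, 1, 1, 3, 1, 2, 2, 2, 2, 2, 1, 2, 1, 3, 0, 0, 0, 2, 1, 1, 3], [0, 0, 2, 2, 2, 2, 1,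 2, 1, 3, 0, 0, 0, 2, 1, 1, 3, 2, 2, 2, 1, 2, 1, 3, 0, 0, 0, 2, 1, 1, 3, 0, 3, 3, 0, 3, 2, 0, 0, 3, 1, 1, 1, 2, 0, 3, 0, 3, 3, 3, 0, 0, 2, 2], [0, 0, 3, 2, 0, 0, 3, 1, 1, 1, 2, 0, 3, 0, 3, 3, 3, 2, 2, 0, 0, 3, 1, 1, 1, 2, 0, 3, 0, 3, 3, 3, 0, 2, 2, 2, 1, 2, 1, 3, 0, 0, 0, 2, 1, 1, 3, 2, 0, 3, 2, 0, 0, 3, 1, 1, 1, 2, 0, 3, 0, 3, 3, 3, 2, 2, 2, 2, 1, 2, 1, 3, 0, 0, 0, 2, 1, 1, 3, 3], [0, 0, 3, 2, 2, 2, 1, 2, 1, 3, 0, 0, 0, 2, 1, 1, 3, 2, 1, 2, 1, 2, 0, 0, 3, 1, 1, 1, 2, 0, 3, 0, 3, 3, 3, 1, 3, 1, 2, 0, 0, 3, 1, 1, 1, 2, 0, 3, 0, 3, 3, 3, 3, 2, 0, 0, 3, 1, 1, 1, 2, 0, 3, 0, 3, 3, 3]],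
   [[0, 2, 0, 0, 3, 1, 1, 1, 2, 0, 3, 0, 3, 3, 3, 3, 3, 2, 0, 0, 3, 1, 1, 1, 2, 0, 3, 0, 3, 3, 3, 2, 0, 0, 3, 1, 1, 1, 2, 0, 3, 0, 3, 3, 3, 2, 1, 2, 0, 3, 0, 3, 3, 3], [0, 2, 0, 0, 3, 1, 1, 1, 2, 0, 3, 0, 3, 3, 3, 3, 1, 2, 2, 2, 0, 0, 3, 1, 1, 1, 2, 0, 3, 0, 3, 3, 3, 1, 2, 0, 0, 3, 1, 1, 1, 2, 0, 3, 0, 3, 3, 3, 2, 2, 2, 2, 1, 2, 1, 3, 0, 0, 0, 2, 1, 1, 3, 2, 2, 1, 2], [0, 2, 2, 2, 1, 2, 1, 3, 0, 0, 0, 2, 1, 1, 3, 2, 2, 2, 2, 1, 2, 1, 3, 0, 0, 0, 2, 1, 1, 3, 2, 2, 0, 0, 3, 1, 1, 1, 2, 0, 3, 0, 3, 3, 3, 1, 3, 2, 2, 2, 1, 2, 1, 3, 0, 0, 0, 2, 1, 1, 3, 2, 2, 2, 1, 2, 1, 3, 0, 0, 0, 2, 1, 1, 3, 2, 2, 2, 2, 2],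 [0, 0, 3, 2, 2, 2, 1, 2, 1, 3, 0, 0, 0, 2, 1, 1, 3, 2, 2, 0, 0, 3, 1, 1, 1, 2, 0, 3, 0, 3, 3, 3, 2, 1, 2, 2, 2, 1, 2, 1, 3, 0, 0, 0, 2, 1, 1, 3, 2, 1, 3, 0, 2, 0, 0, 3, 1, 1, 1, 2, 0, 3, 0, 3, 3, 3, 3], [0, 0, 3, 2, 2, 2, 1, 2, 1, 3, 0, 0, 0, 2, 1, 1, 3, 3, 0, 2, 0, 0, 3, 1, 1, 1, 2, 0, 3, 0, 3, 3, 3, 3, 3, 0, 2, 0, 0, 3, 1, 1, 1, 2, 0, 3, 0, 3, 3, 3, 2, 0, 0, 3, 1, 1, 1, 2, 0, 3, 0, 3, 3, 3, 3, 1, 2], [0, 2, 0, 0, 3, 1, 1, 1, 2, 0, 3, 0, 3, 3, 3, 3, 3, 0, 3, 3, 2, 2, 2, 1, 2, 1, 3, 0, 0, 0, 2, 1, 1, 3, 2, 0, 2, 2, 0, 0, 3, 1, 1, 1, 2, 0, 3, 0, 3, 3, 3, 3, 3, 2, 0, 0, 3, 1, 1, 1, 2, 0, 3, 0, 3, 3, 3], [0,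 3, 3, 2, 0, 0, 3, 1, 1, 1, 2, 0, 3, 0, 3, 3, 3, 2, 2, 2, 0, 0, 3, 1, 1, 1, 2, 0, 3, 0, 3, 3, 3, 3, 3, 2, 2, 2, 1, 2, 1, 3, 0, 0, 0, 2, 1, 1, 3, 3, 2, 2, 2, 1, 2, 1, 3, 0, 0, 0, 2, 1, 1, 3, 2, 2, 2, 1, 2, 1, 3, 0, 0, 0, 2, 1, 1, 3, 2, 2], [0, 2, 2, 1, 2, 0, 0, 3, 1, 1, 1, 2, 0, 3, 0, 3, 3, 3, 2, 2, 2, 2, 1, 2, 1, 3, 0, 0, 0, 2, 1, 1, 3, 3, 3, 1, 2, 2, 2, 0, 0, 3, 1, 1, 1, 2, 0, 3, 0, 3, 3, 3, 3, 2, 0, 0, 3, 1, 1, 1, 2, 0, 3, 0, 3, 3, 3]],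
   [[0, 0, 2, 2, 1, 2, 2, 2, 1, 2, 1, 3, 0, 0, 0, 2, 1, 1, 3, 2, 2, 2, 1, 2, 1, 3, 0, 0, 0, 2, 1, 1, 3, 2, 2, 2, 2, 1, 2, 1, 3, 0, 0, 0, 2, 1, 1, 3, 2, 2, 0, 0, 3, 1, 1, 1, 2, 0, 3, 0, 3, 3, 3, 3, 3, 0, 2, 2], [0, 2, 0, 0, 3, 1, 1, 1, 2, 0, 3, 0, 3, 3, 3, 2, 2, 2, 2, 1, 2, 1, 3, 0, 0, 0, 2, 1, 1, 3, 0, 2, 0, 0, 3, 1, 1, 1, 2, 0, 3, 0, 3, 3, 3, 2, 2, 2, 2, 1, 2, 1, 3, 0, 0, 0, 2, 1, 1, 3, 0, 3, 1, 3, 1, 2, 0, 0, 3, 1, 1, 1, 2, 0, 3, 0, 3, 3, 3, 2, 2, 2, 2, 1, 2, 1, 3, 0, 0, 0, 2, 1, 1, 3], [0, 2, 0, 0, 3, 1, 1, 1, 2, 0, 3, 0, 3, 3, 3, 2, 2, 0, 0, 3, 1, 1, 1, 2, 0, 3, 0, 3, 3, 3, 3, 0, 2, 0, 0, 3, 1, 1, 1, 2,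 0, 3, 0, 3, 3, 3, 2, 2, 0, 0, 3, 1, 1, 1, 2, 0, 3, 0, 3, 3, 3, 3, 0, 2, 0, 0, 3, 1, 1, 1, 2, 0, 3, 0, 3, 3, 3, 2, 2, 0, 0, 3, 1, 1, 1, 2, 0, 3, 0, 3, 3, 3, 3], [0, 0, 2, 0, 0, 3, 1, 1, 1, 2, 0, 3, 0, 3, 3, 3, 2, 1, 2, 0, 0, 3, 1, 1, 1, 2, 0, 3, 0, 3, 3, 3, 2, 2, 0, 0, 3, 1, 1, 1, 2, 0, 3, 0, 3, 3, 3, 0, 2, 2, 2, 2, 1, 2, 1, 3, 0, 0, 0, 2, 1, 1, 3, 0, 0, 3, 0, 3], [0, 2, 2, 2, 1, 2, 1, 3, 0, 0, 0, 2, 1, 1, 3, 0, 2, 0, 2, 2, 0, 0, 3, 1, 1, 1, 2, 0, 3, 0, 3, 3, 3, 1, 2, 2, 0, 0, 3, 1, 1, 1, 2, 0, 3, 0, 3, 3, 3, 0, 2, 0, 2, 2, 2, 2, 1, 2, 1, 3, 0, 0, 0, 2, 1, 1, 3, 3], [0, 2, 0, 0, 3, 1, 1, 1, 2, 0, 3, 0, 3, 3,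 3, 2, 2, 2, 2, 1, 2, 1, 3, 0, 0, 0, 2, 1, 1, 3, 2, 2, 2, 2, 1, 2, 1, 3, 0, 0, 0, 2, 1, 1, 3, 2, 2, 0, 0, 3, 1, 1, 1, 2, 0, 3, 0, 3, 3, 3, 1, 2, 2, 2, 1, 2, 1, 3, 0, 0, 0, 2, 1, 1, 3, 2, 0, 2, 2, 2, 2, 2, 2, 1, 2, 1, 3, 0, 0, 0, 2, 1, 1, 3], [0, 0, 2, 2, 1, 3, 3, 1, 2, 2, 1, 2, 2, 2, 1, 2, 1, 3, 0, 0, 0, 2, 1, 1, 3, 2, 1, 2, 2, 0, 0, 3, 1, 1, 1, 2, 0, 3, 0, 3, 3, 3]],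
   [[0, 2, 0, 0, 3, 1, 1, 1, 2, 0, 3, 0, 3, 3, 3, 2, 2, 1, 3, 0, 3, 2, 0, 0, 3, 1, 1, 1, 2, 0, 3, 0, 3, 3, 3, 2, 0, 0, 3, 1, 1, 1, 2, 0, 3, 0, 3, 3, 3, 0, 2, 0, 2, 2, 2, 1, 2, 1, 3, 0, 0, 0, 2, 1, 1, 3, 2, 2, 2, 1, 2, 1, 3, 0, 0, 0, 2, 1, 1, 3, 3], [0, 2, 2, 2, 1, 2, 1, 3, 0, 0, 0, 2, 1, 1, 3, 0, 3, 3, 2, 2, 2, 1, 2, 1, 3, 0, 0, 0, 2, 1, 1, 3, 0, 3, 3, 2, 2, 2, 1, 2, 1, 3, 0, 0, 0, 2, 1, 1, 3, 2, 2, 2, 1, 2, 1, 3, 0, 0, 0, 2, 1, 1, 3, 2, 2, 2, 2, 2, 2, 1, 2, 1, 3, 0, 0, 0, 2, 1, 1, 3, 2], [0, 0, 2, 2, 2, 1, 2, 1, 3, 0, 0, 0, 2, 1, 1, 3, 3, 2, 0, 0, 3, 1, 1, 1, 2, 0, 3, 0, 3, 3, 3, 0, 0, 3, 3, 1, 2, 2, 2, 1,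 2, 1, 3, 0, 0, 0, 2, 1, 1, 3, 3, 0, 2, 0, 0, 3, 1, 1, 1, 2, 0, 3, 0, 3, 3, 3, 0, 3], [0, 0, 0, 3, 2, 0, 0, 3, 1, 1, 1, 2, 0, 3, 0, 3, 3, 3, 0, 2, 2, 1, 1, 3, 1, 2, 2, 2, 2, 1, 2, 1, 3, 0, 0, 0, 2, 1, 1, 3, 3, 3], [0, 2, 2, 2, 1, 2, 1, 3, 0, 0, 0, 2, 1, 1, 3, 3, 2, 2, 2, 1, 2, 1, 3, 0, 0, 0, 2, 1, 1, 3, 2, 2, 2, 2, 1, 2, 1, 3, 0, 0, 0, 2, 1, 1, 3, 2, 0, 3, 1, 2, 2, 2, 1, 2, 1, 3, 0, 0, 0, 2, 1, 1, 3, 0, 3, 3, 0, 3], [0, 0, 3, 0, 3, 2, 2, 2, 1, 2, 1, 3, 0, 0, 0, 2, 1, 1, 3, 3, 3, 2, 0, 0, 3, 1, 1, 1, 2, 0, 3, 0, 3, 3, 3, 3, 0, 3, 2, 2, 2, 1, 2, 1, 3, 0, 0, 0, 2, 1, 1, 3, 2, 2, 2, 1, 2, 1, 3, 0, 0, 0, 2, 1, 1,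 3, 0, 2], [0, 0, 0, 0, 2, 2, 2, 1, 2, 1, 3, 0, 0, 0, 2, 1, 1, 3, 1, 2, 0, 0, 3, 1, 1, 1, 2, 0, 3, 0, 3, 3, 3], [0, 0, 2, 0, 0, 3, 1, 1, 1, 2, 0, 3, 0, 3, 3, 3, 2, 0, 0, 3, 1, 1, 1, 2, 0, 3, 0, 3, 3, 3, 0, 2, 2, 2, 1, 2, 1, 3, 0, 0, 0, 2, 1, 1, 3, 2, 2, 2, 1, 2, 1, 3, 0, 0, 0, 2, 1, 1, 3], [0, 2, 0, 0, 3, 1, 1, 1, 2, 0, 3, 0, 3, 3, 3, 1, 2, 0, 0, 3, 1, 1, 1, 2, 0, 3, 0, 3, 3, 3, 1, 2, 2, 2, 1, 2, 1, 3, 0, 0, 0, 2, 1, 1, 3, 2, 2, 2, 1, 2, 1, 3, 0, 0, 0, 2, 1, 1, 3]],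
   [[0, 2, 0, 0, 3, 1, 1, 1, 2, 0, 3, 0, 3, 3, 3, 0, 2, 2, 2, 1, 2, 1, 3, 0, 0, 0, 2, 1, 1, 3, 2, 2, 2, 1, 2, 1, 3, 0, 0, 0, 2, 1, 1, 3, 1, 2, 0, 0, 3, 1, 1, 1, 2, 0, 3, 0, 3, 3, 3], [0, 0, 0, 2, 2, 2, 1, 2, 1, 3, 0, 0, 0, 2, 1, 1, 3, 0, 0, 2, 0, 0, 3, 1, 1, 1, 2, 0, 3, 0, 3, 3, 3], [0, 0, 2, 2, 2, 1, 2, 1, 3, 0, 0, 0, 2, 1, 1, 3, 2, 2, 2, 1, 2, 1, 3, 0, 0, 0, 2, 1, 1, 3, 0, 2, 0, 0, 3, 1, 1, 1, 2, 0, 3, 0, 3, 3, 3, 0, 2, 0, 0, 3, 1, 1, 1, 2, 0, 3, 0, 3, 3, 3], [0, 0, 2, 2, 2, 1, 2, 1, 3, 0, 0, 0, 2, 1, 1, 3, 0, 2, 2, 2, 1, 2, 1, 3, 0, 0, 0, 2, 1, 1, 3, 0, 2, 0, 0, 3, 1, 1, 1, 2, 0, 3, 0, 3, 3, 3, 2, 0, 0,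 3, 1, 1, 1, 2, 0, 3, 0, 3, 3, 3], [0, 0, 2, 2, 2, 1, 2, 1, 3, 0, 0, 0, 2, 1, 1, 3, 2, 2, 2, 1, 2, 1, 3, 0, 0, 0, 2, 1, 1, 3, 2, 2, 2, 1, 2, 1, 3, 0, 0, 0, 2, 1, 1, 3, 0, 2, 2, 2, 1, 2, 1, 3, 0, 0, 0, 2, 1, 1, 3, 2, 2, 2, 1, 2, 1, 3, 0, 0, 0, 2, 1, 1, 3], [0, 0, 2, 0, 0, 3, 1, 1, 1, 2, 0, 3, 0, 3, 3, 3, 2, 0, 0, 3, 1, 1, 1, 2, 0, 3, 0, 3, 3, 3, 0, 2, 0, 0, 3, 1, 1, 1, 2, 0, 3, 0, 3, 3, 3, 2, 0, 0, 3, 1, 1, 1, 2, 0, 3, 0, 3, 3, 3, 2, 0, 0, 3, 1, 1, 1, 2, 0, 3, 0, 3, 3, 3], [0, 2, 0, 0, 3, 1, 1, 1, 2, 0, 3, 0, 3, 3, 3, 0, 2, 0, 0, 3, 1, 1, 1, 2, 0, 3, 0, 3, 3, 3, 2, 0, 0, 3, 1, 1, 1, 2, 0, 3, 0, 3, 3, 3, 2, 0,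 0, 3, 1, 1, 1, 2, 0, 3, 0, 3, 3, 3, 1, 2, 0, 0, 3, 1, 1, 1, 2, 0, 3, 0, 3, 3, 3], [0, 2, 0, 0, 3, 1, 1, 1, 2, 0, 3, 0, 3, 3, 3, 1, 2, 0, 0, 3, 1, 1, 1, 2, 0, 3, 0, 3, 3, 3, 1, 2, 0, 0, 3, 1, 1, 1, 2, 0, 3, 0, 3, 3, 3, 2, 0, 0, 3, 1, 1, 1, 2, 0, 3, 0, 3, 3, 3, 2, 0, 0, 3, 1, 1, 1, 2, 0, 3, 0, 3, 3, 3], [0, 0, 2, 2, 2, 2, 1, 2, 2, 0, 0, 3, 1, 1, 1, 2, 0, 3, 0, 3, 3, 3, 1, 2, 2, 2, 1, 2, 1, 3, 0, 0, 0, 2, 1, 1, 3, 1, 3, 3]],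
   [[0, 2, 0, 0, 3, 1, 1, 1, 2, 0, 3, 0, 3, 3, 3, 0, 2, 2, 2, 1, 2, 1, 3, 0, 0, 0, 2, 1, 1, 3, 3, 0, 3, 3, 3, 3, 2, 0, 0, 3, 1, 1, 1, 2, 0, 3, 0, 3, 3, 3, 1, 2, 2, 2, 1, 2, 1, 3, 0, 0, 0, 2, 1, 1, 3, 0, 2, 2], [0, 0, 0, 0, 3, 0, 3, 3, 3, 3, 1, 1, 2, 2], [0, 0, 2, 2, 2, 2, 1, 2, 1, 2, 0, 0, 3, 1, 1, 1, 2, 0, 3, 0, 3, 3, 3, 1, 2, 2, 2, 1, 2, 1, 3, 0, 0, 0, 2, 1, 1, 3, 3, 3], [0, 0, 0, 2, 2, 2, 2, 1, 2, 1, 3, 0, 0, 0, 2, 1, 1, 3, 2, 2, 0, 0, 3, 1, 1, 1, 2, 0, 3, 0, 3, 3, 3, 3, 2, 2, 2, 1, 2, 1, 3, 0, 0, 0, 2, 1, 1, 3, 2, 1, 2, 2], [0, 0, 0, 2, 2, 2, 2, 1, 2, 1, 3, 0, 0, 0, 2, 1, 1, 3, 2, 2, 0, 0, 3, 1, 1, 1,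 2, 0, 3, 0, 3, 3, 3, 3, 2, 0, 0, 3, 1, 1, 1, 2, 0, 3, 0, 3, 3, 3, 2, 0, 0, 3, 1, 1, 1, 2, 0, 3, 0, 3, 3, 3, 2, 0, 0, 3, 1, 1, 1, 2, 0, 3, 0, 3, 3, 3, 2, 0, 0, 3, 1, 1, 1, 2, 0, 3, 0, 3, 3, 3, 2, 1, 2, 2], [0, 0, 0, 2, 2, 2, 2, 1, 2, 1, 3, 0, 0, 0, 2, 1, 1, 3, 2, 2, 2, 2, 1, 2, 1, 3, 0, 0, 0, 2, 1, 1, 3, 2, 2, 2, 1, 2, 1, 3, 0, 0, 0, 2, 1, 1, 3, 2, 2, 2, 1, 2, 1, 3, 0, 0, 0, 2, 1, 1, 3, 2, 2, 2, 1, 2, 1, 3, 0, 0, 0, 2, 1, 1, 3, 3, 2, 2, 2, 1, 2, 1, 3, 0, 0, 0, 2, 1, 1, 3, 2, 1, 2, 2], [0, 0, 0, 2, 2, 0, 0, 3, 1, 1, 1, 2, 0, 3, 0, 3, 3, 3, 2, 0, 0, 3, 1, 1, 1, 2, 0, 3, 0, 3, 3, 3, 2, 0, 0, 3, 1, 1, 1, 2, 0,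 3, 0, 3, 3, 3, 2, 0, 0, 3, 1, 1, 1, 2, 0, 3, 0, 3, 3, 3, 2, 2, 0, 0, 3, 1, 1, 1, 2, 0, 3, 0, 3, 3, 3, 3, 2, 2, 2, 1, 2, 1, 3, 0, 0, 0, 2, 1, 1, 3, 2, 1, 2, 2], [0, 2, 2, 2, 1, 2, 1, 3, 0, 0, 0, 2, 1, 1, 3, 2, 2, 0, 0, 3, 1, 1, 1, 2, 0, 3, 0, 3, 3, 3, 3, 2, 2, 2, 1, 2, 1, 3, 0, 0, 0, 2, 1, 1, 3, 2, 0, 2, 2, 2, 0, 3, 0, 3], [0, 2, 2, 2, 2, 1, 2, 1, 2, 2, 2, 2, 1, 2, 1, 3, 0, 0, 0, 2, 1, 1, 3, 2, 2, 0, 0, 3, 1, 1, 1, 2, 0, 3, 0, 3, 3, 3, 3, 2, 2, 2, 1, 2, 1, 3, 0, 0, 0, 2, 1, 1, 3, 2], [0, 0, 0, 2, 1, 2, 1, 2, 1, 3, 3, 3, 1, 1, 2, 2]],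
   [[0, 2, 0, 0, 3, 1, 1, 1, 2, 0, 3, 0, 3, 3, 3, 0, 2, 2, 2, 1, 2, 1, 3, 0, 0, 0, 2, 1, 1, 3, 1, 2, 0, 0, 3, 1, 1, 1, 2, 0, 3, 0, 3, 3, 3, 1, 2, 2, 2, 1, 2, 1, 3, 0, 0, 0, 2, 1, 1, 3], [0, 0, 0, 0, 2, 2, 1, 1, 3, 3, 3, 3, 0, 3], [0, 0, 3, 3, 1, 2, 0, 0, 3, 1, 1, 1, 2, 0, 3, 0, 3, 3, 3, 1, 2, 2, 2, 1, 2, 1, 3, 0, 0, 0, 2, 1, 1, 3, 2, 1, 2, 2, 2, 2], [0, 0, 3, 3, 2, 0, 0, 3, 1, 1, 1, 2, 0, 3, 0, 3, 3, 3, 1, 2, 2, 2, 1, 2, 1, 3, 0, 0, 0, 2, 1, 1, 3, 1, 2, 1, 2, 2, 2, 2], [0, 0, 0, 0, 2, 2, 0, 2, 0, 0, 3, 1, 1, 1, 2, 0, 3, 0, 3, 3, 3, 1, 2, 2, 2, 1, 2, 1, 3, 0, 0, 0, 2, 1, 1, 3, 3, 3, 3, 3, 0, 3], [0, 0, 2, 2,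 2, 1, 2, 1, 3, 0, 0, 0, 2, 1, 1, 3, 0, 2, 1, 2, 2, 2, 2, 0, 0, 3, 3, 2, 0, 0, 3, 1, 1, 1, 2, 0, 3, 0, 3, 3, 3], [0, 2, 0, 0, 3, 1, 1, 1, 2, 0, 3, 0, 3, 3, 3, 2, 2, 2, 0, 0, 3, 1, 1, 1, 2, 0, 3, 0, 3, 3, 3, 1, 2, 2, 2, 1, 2, 1, 3, 0, 0, 0, 2, 1, 1, 3, 0, 3, 3, 3, 3, 0, 3, 2, 2, 2, 1, 2, 1, 3, 0, 0, 0, 2, 1, 1, 3], [0, 0, 3, 3, 3, 3, 3, 3, 3, 1, 2, 2, 2, 2, 1, 2, 1, 3, 0, 0, 0, 2, 1, 1, 3, 1, 2, 0, 0, 3, 1, 1, 1, 2, 0, 3, 0, 3, 3, 3, 3, 3], [0, 2, 1, 2, 0, 0, 3, 1, 1, 1, 2, 0, 3, 0, 3, 3, 3, 0, 3, 3, 3, 0, 2, 2, 2, 2, 1, 2, 1, 3, 0, 0, 0, 2, 1, 1, 3, 0, 2, 2], [0, 0, 2, 0, 0, 3, 1, 1, 1, 2, 0, 3, 0, 3, 3, 3,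 1, 3, 1, 2, 2, 2, 1, 2, 2, 2, 1, 2, 1, 3, 0, 0, 0, 2, 1, 1, 3, 0, 3, 1, 3, 3], [0, 2, 0, 0, 3, 1, 1, 1, 2, 0, 3, 0, 3, 3, 3, 3, 3, 3, 0, 2, 2, 2, 2, 1, 2, 1, 3, 0, 0, 0, 2, 1, 1, 3, 0, 2, 1, 3, 1, 3], [0, 0, 2, 0, 0, 3, 1, 1, 1, 2, 0, 3, 0, 3, 3, 3, 1, 3, 1, 2, 2, 2, 2, 2, 2, 1, 2, 1, 3, 0, 0, 0, 2, 1, 1, 3, 1, 2, 0, 2, 0, 3], [0, 0, 0, 2, 2, 2, 1, 2, 1, 3, 0, 0, 0, 2, 1, 1, 3, 3, 1, 3, 3, 1, 2, 0, 0, 3, 1, 1, 1, 2, 0, 3, 0, 3, 3, 3, 3, 1, 2, 2, 2]],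
   [[0, 0, 2, 1, 2, 2, 0, 0, 3, 1, 1, 1, 2, 0, 3, 0, 3, 3, 3, 2, 0, 0, 3, 1, 1, 1, 2, 0, 3, 0, 3, 3, 3, 2, 0, 0, 3, 1, 1, 1, 2, 0, 3, 0, 3, 3, 3, 2, 0, 2, 2, 2, 1, 2, 1, 3, 0, 0, 0, 2, 1, 1, 3, 2, 2, 2, 1, 2, 1, 3, 0, 0, 0, 2, 1, 1, 3, 2, 2, 0, 0, 3, 1, 1, 1, 2, 0, 3, 0, 3, 3, 3, 2], [0, 0, 2, 1, 2, 2, 2, 2, 1, 2, 1, 3, 0, 0, 0, 2, 1, 1, 3, 2, 2, 2, 1, 2, 1, 3, 0, 0, 0, 2, 1, 1, 3, 2, 0, 2, 0, 0, 3, 1, 1, 1, 2, 0, 3, 0, 3, 3, 3, 2, 0, 0, 3, 1, 1, 1, 2, 0, 3, 0, 3, 3, 3, 2, 0, 0, 3, 1, 1, 1, 2, 0, 3, 0, 3, 3, 3, 2, 2, 0, 0, 3, 1, 1, 1, 2, 0, 3, 0, 3, 3, 3, 2], [0, 0, 2, 0, 2, 2, 2, 1, 2, 1, 3, 0, 0, 0, 2, 1,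 1, 3, 2, 2, 2, 1, 2, 1, 3, 0, 0, 0, 2, 1, 1, 3, 1, 3, 3, 2, 2, 2, 1, 2, 1, 3, 0, 0, 0, 2, 1, 1, 3, 2, 2, 2, 1, 2, 1, 3, 0, 0, 0, 2, 1, 1, 3, 3, 1, 1, 2], [0, 0, 2, 2, 0, 0, 3, 1, 1, 1, 2, 0, 3, 0, 3, 3, 3, 2, 0, 0, 3, 1, 1, 1, 2, 0, 3, 0, 3, 3, 3, 2, 2, 2, 0, 0, 3, 1, 1, 1, 2, 0, 3, 0, 3, 3, 3, 0, 2, 0, 0, 3, 1, 1, 1, 2, 0, 3, 0, 3, 3, 3, 3, 0, 2, 0, 0, 3, 1, 1, 1, 2, 0, 3, 0, 3, 3, 3, 1, 2, 2, 2, 1, 2, 1, 3, 0, 0, 0, 2, 1, 1, 3, 3], [0, 2, 2, 2, 1, 2, 1, 3, 0, 0, 0, 2, 1, 1, 3, 3, 1, 3, 1, 2, 1, 2, 0, 0, 3, 1, 1, 1, 2, 0, 3, 0, 3, 3, 3, 2, 0, 3, 3, 3], [0, 0, 2, 0, 0, 3, 1, 1, 1, 2, 0, 3, 0, 3, 3, 3, 1, 2,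 0, 3, 3, 3, 0, 2, 2, 2, 1, 2, 1, 3, 0, 0, 0, 2, 1, 1, 3, 3, 1, 3, 1, 2], [0, 0, 0, 3, 1, 3, 1, 2, 1, 2, 0, 0, 3, 1, 1, 1, 2, 0, 3, 0, 3, 3, 3, 2, 0, 3, 3, 3, 2, 2, 2, 1, 2, 1, 3, 0, 0, 0, 2, 1, 1, 3], [0, 2, 0, 0, 3, 1, 1, 1, 2, 0, 3, 0, 3, 3, 3, 2, 0, 2, 2, 1, 2, 0, 0, 3, 1, 1, 1, 2, 0, 3, 0, 3, 3, 3, 2, 0, 3, 3, 3, 2, 2, 2, 1, 2, 1, 3, 0, 0, 0, 2, 1, 1, 3, 2, 2, 2, 1, 2, 1, 3, 0, 0, 0, 2, 1, 1, 3]],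
   [[0, 2, 0, 0, 3, 1, 1, 1, 2, 0, 3, 0, 3, 3, 3, 3, 3, 2, 0, 0, 3, 1, 1, 1, 2, 0, 3, 0, 3, 3, 3, 3, 2, 0, 0, 3, 1, 1, 1, 2, 0, 3, 0, 3, 3, 3, 2, 0, 0, 3, 1, 1, 1, 2, 0, 3, 0, 3, 3, 3, 1, 3, 2, 0, 0, 3, 1, 1, 1, 2, 0, 3, 0, 3, 3, 3, 2, 0, 0, 3, 1, 1, 1, 2, 0, 3, 0, 3, 3, 3, 3, 1, 3, 2, 0, 0, 3, 1, 1, 1, 2, 0, 3, 0, 3, 3, 3], [0, 0, 2, 1, 1, 3, 0, 2, 0, 0, 3, 1, 1, 1, 2, 0, 3, 0, 3, 3, 3, 2, 0, 0, 3, 1, 1, 1, 2, 0, 3, 0, 3, 3, 3, 1, 3, 3, 2, 0, 0, 3, 1, 1, 1, 2, 0, 3, 0, 3, 3, 3, 2, 0, 0, 3, 1, 1, 1, 2, 0, 3, 0, 3, 3, 3, 2], [0, 0, 2, 2, 2, 1, 2, 1, 3, 0, 0, 0, 2, 1, 1, 3, 2, 2, 2, 1, 2, 1, 3, 0, 0, 0, 2, 1,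 1, 3, 0, 2, 0, 0, 3, 1, 1, 3, 2, 2, 2, 1, 2, 1, 3, 0, 0, 0, 2, 1, 1, 3, 2, 2, 2, 1, 2, 1, 3, 0, 0, 0, 2, 1, 1, 3, 2, 2], [0, 0, 2, 0, 0, 3, 1, 1, 1, 2, 0, 3, 0, 3, 3, 3, 2, 0, 0, 3, 1, 1, 1, 2, 0, 3, 0, 3, 3, 3, 3, 2, 0, 0, 3, 1, 1, 1, 2, 0, 3, 0, 3, 3, 3, 2, 0, 0, 3, 1, 1, 1, 2, 0, 3, 0, 3, 3, 3, 3, 0, 3, 1, 1, 3, 2, 2, 2, 1, 2, 1, 3, 0, 0, 0, 2, 1, 1, 3, 3], [0, 0, 2, 2, 2, 1, 2, 1, 3, 0, 0, 0, 2, 1, 1, 3, 2, 0, 0, 3, 1, 1, 3, 2, 2, 2, 1, 2, 1, 3, 0, 0, 0, 2, 1, 1, 3, 2, 2, 2, 1, 2, 1, 3, 0, 0, 0, 2, 1, 1, 3, 2, 2, 1, 2, 2, 2, 1, 2, 1, 3, 0, 0, 0, 2, 1, 1, 3], [0, 0, 2, 1, 1, 3, 2, 2, 2, 1, 2, 1, 3, 0, 0,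 0, 2, 1, 1, 3, 2, 2, 2, 1, 2, 1, 3, 0, 0, 0, 2, 1, 1, 3, 0, 2, 2, 2, 1, 2, 1, 3, 0, 0, 0, 2, 1, 1, 3, 0, 3, 3, 2, 0, 0, 3, 1, 1, 1, 2, 0, 3, 0, 3, 3, 3, 2, 0, 0, 3, 1, 1, 1, 2, 0, 3, 0, 3, 3, 3, 2], [0, 2, 2, 2, 1, 2, 1, 3, 0, 0, 0, 2, 1, 1, 3, 3, 3, 0, 2, 0, 3, 3, 1, 2, 2, 2, 1, 2, 1, 3, 0, 0, 0, 2, 1, 1, 3, 2, 2, 2, 1, 2, 1, 3, 0, 0, 0, 2, 1, 1, 3, 2, 2, 2, 2, 1, 2, 1, 3, 0, 0, 0, 2, 1, 1, 3, 2, 2, 2, 1, 2, 1, 3, 0, 0, 0, 2, 1, 1, 3]],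
   [[0, 2, 0, 0, 3, 1, 1, 1, 2, 0, 3, 0, 3, 3, 3, 3, 2, 0, 0, 3, 1, 1, 1, 2, 0, 3, 0, 3, 3, 3, 2, 0, 0, 3, 1, 1, 1, 2, 0, 3, 0, 3, 3, 3, 0, 2, 2, 1, 3, 1, 2, 2, 1, 2, 0, 0, 3, 1, 1, 1, 2, 0, 3, 0, 3, 3, 3, 2, 0, 0, 3, 1, 1, 1, 2, 0, 3, 0, 3, 3, 3], [0, 0, 2, 2, 2, 1, 2, 1, 3, 0, 0, 0, 2, 1, 1, 3, 3, 2, 0, 0, 3, 1, 1, 1, 2, 0, 3, 0, 3, 3, 3, 2, 0, 0, 3, 1, 1, 1, 2, 0, 3, 0, 3, 3, 3, 0, 2, 2, 1, 3, 1, 2, 2, 2, 2, 2, 1, 2, 1, 3, 0, 0, 0, 2, 1, 1, 3], [0, 0, 2, 2, 0, 0, 3, 1, 1, 1, 2, 0, 3, 0, 3, 3, 3, 0, 2, 0, 0, 3, 1, 1, 1, 2, 0, 3, 0, 3, 3, 3, 1, 3, 3, 0, 2, 0, 3, 3, 2, 2, 2, 1, 2, 1, 3, 0, 0, 0, 2, 1, 1, 3,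 2, 2, 2, 1, 2, 1, 3, 0, 0, 0, 2, 1, 1, 3], [0, 0, 2, 2, 1, 2, 2, 2, 1, 2, 1, 3, 0, 0, 0, 2, 1, 1, 3, 3, 0, 3, 3, 0, 2, 0, 0, 3, 1, 1, 1, 2, 0, 3, 0, 3, 3, 3, 0, 2, 0, 0, 3, 1, 1, 1, 2, 0, 3, 0, 3, 3, 3, 2], [0, 0, 2, 2, 1, 2, 2, 2, 1, 2, 1, 3, 0, 0, 0, 2, 1, 1, 3, 3, 0, 3, 3, 2, 2, 2, 1, 2, 1, 3, 0, 0, 0, 2, 1, 1, 3, 0, 2, 0, 0, 3, 1, 1, 1, 2, 0, 3, 0, 3, 3, 3, 2, 0, 0, 3, 1, 1, 1, 2, 0, 3, 0, 3, 3, 3, 2, 0, 0, 3, 1, 1, 1, 2, 0, 3, 0, 3, 3, 3, 2], [0, 0, 2, 2, 1, 2, 2, 2, 1, 2, 1, 3, 0, 0, 0, 2, 1, 1, 3, 3, 0, 3, 3, 2, 2, 2, 1, 2, 1, 3, 0, 0, 0, 2, 1, 1, 3, 0, 2, 2, 2, 1, 2, 1, 3, 0, 0, 0, 2, 1, 1, 3, 2, 2,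 2, 1, 2, 1, 3, 0, 0, 0, 2, 1, 1, 3, 2], [0, 0, 2, 2, 1, 2, 2, 2, 1, 2, 1, 3, 0, 0, 0, 2, 1, 1, 3, 3, 0, 3, 3, 2, 2, 2, 1, 2, 1, 3, 0, 0, 0, 2, 1, 1, 3, 2, 2, 2, 1, 2, 1, 3, 0, 0, 0, 2, 1, 1, 3, 1, 2, 2, 2, 1, 2, 1, 3, 0, 0, 0, 2, 1, 1, 3, 0, 2], [0, 2, 2, 2, 1, 2, 1, 3, 0, 0, 0, 2, 1, 1, 3, 0, 2, 2, 2, 2, 1, 2, 1, 3, 0, 0, 0, 2, 1, 1, 3, 3, 2, 0, 0, 3, 1, 1, 1, 2, 0, 3, 0, 3, 3, 3, 3, 1, 2, 0, 0, 3, 1, 1, 1, 2, 0, 3, 0, 3, 3, 3, 2, 0, 0, 3, 1, 1, 1, 2, 0, 3, 0, 3, 3, 3, 3, 3, 2, 0, 0, 3, 1, 1, 1, 2, 0, 3, 0, 3, 3, 3, 2, 2]],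
   [[0, 2, 2, 2, 1, 2, 1, 3, 0, 0, 0, 2, 1, 1, 3, 0, 2, 2, 2, 1, 2, 1, 3, 0, 0, 0, 2, 1, 1, 3, 2, 1, 2, 2, 2, 0, 0, 3, 1, 1, 1, 2, 0, 3, 0, 3, 3, 3, 2, 0, 0, 3, 1, 1, 1, 2, 0, 3, 0, 3, 3, 3, 1, 3, 3, 2, 0, 0, 3, 1, 1, 1, 2, 0, 3, 0, 3, 3, 3, 2, 2], [0, 2, 0, 0, 3, 1, 1, 1, 2, 0, 3, 0, 3, 3, 3, 2, 0, 0, 3, 1, 1, 1, 2, 0, 3, 0, 3, 3, 3, 0, 3, 3, 2, 2, 2, 1, 2, 1, 3, 0, 0, 0, 2, 1, 1, 3, 2, 2, 0, 2, 2, 2, 1, 2, 1, 3, 0, 0, 0, 2, 1, 1, 3, 2, 2, 2, 1, 2, 1, 3, 0, 0, 0, 2, 1, 1, 3, 3, 3, 0, 3], [0, 2, 2, 2, 1, 2, 1, 3, 0, 0, 0, 2, 1, 1, 3, 2, 2, 2, 1, 2, 1, 3, 0, 0, 0, 2, 1, 1, 3, 3, 3, 0, 3, 1, 2, 2, 2, 1, 2, 1,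 3, 0, 0, 0, 2, 1, 1, 3, 2, 2, 2, 1, 2, 1, 3, 0, 0, 0, 2, 1, 1, 3, 2, 2, 2, 1, 2, 1, 3, 0, 0, 0, 2, 1, 1, 3, 3, 3, 2, 2, 2, 1, 2, 1, 3, 0, 0, 0, 2, 1, 1, 3, 2, 2], [0, 2, 0, 0, 3, 1, 1, 1, 2, 0, 3, 0, 3, 3, 3, 3, 3, 2, 0, 0, 3, 1, 1, 1, 2, 0, 3, 0, 3, 3, 3, 2, 2, 2, 2, 2, 1, 2, 1, 3, 0, 0, 0, 2, 1, 1, 3, 2, 2, 2, 1, 2, 1, 3, 0, 0, 0, 2, 1, 1, 3, 0, 2, 1, 2, 2, 1, 2, 0, 0, 3, 1, 1, 1, 2, 0, 3, 0, 3, 3, 3], [0, 2, 0, 0, 3, 1, 1, 1, 2, 0, 3, 0, 3, 3, 3, 2, 1, 2, 2, 2, 2, 1, 2, 1, 3, 0, 0, 0, 2, 1, 1, 3, 2, 2, 2, 2, 1, 2, 1, 3, 0, 0, 0, 2, 1, 1, 3, 3, 2, 2, 2, 1, 2, 1, 3, 0, 0, 0, 2, 1, 1, 3, 2, 2, 2, 1, 2, 1,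 3, 0, 0, 0, 2, 1, 1, 3, 0, 2, 2, 2, 1, 2, 1, 3, 0, 0, 0, 2, 1, 1, 3, 3, 3], [0, 2, 2, 1, 3, 2, 0, 0, 3, 1, 1, 1, 2, 0, 3, 0, 3, 3, 3, 2, 1, 2, 2, 2, 2, 1, 2, 1, 3, 0, 0, 0, 2, 1, 1, 3, 2, 2, 2, 2, 1, 2, 1, 3, 0, 0, 0, 2, 1, 1, 3, 3, 3, 2, 0, 0, 3, 1, 1, 1, 2, 0, 3, 0, 3, 3, 3, 2, 0, 0, 3, 1, 1, 1, 2, 0, 3, 0, 3, 3, 3]],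
   [[0, 2, 0, 0, 3, 1, 1, 1, 2, 0, 3, 0, 3, 3, 3, 2, 1, 2, 2, 2, 2, 1, 2, 1, 3, 0, 0, 0, 2, 1, 1, 3, 2, 2, 2, 2, 1, 2, 1, 3, 0, 0, 0, 2, 1, 1, 3, 3, 2, 2, 2, 1, 2, 1, 3, 0, 0, 0, 2, 1, 1, 3, 1, 2, 2, 2, 1, 2, 1, 3, 0, 0, 0, 2, 1, 1, 3, 2, 2, 2, 1, 2, 1, 3, 0, 0, 0, 2, 1, 1, 3, 0, 3, 3], [0, 0, 2, 2, 2, 1, 2, 1, 3, 0, 0, 0, 2, 1, 1, 3, 2, 2, 2, 1, 2, 1, 3, 0, 0, 0, 2, 1, 1, 3, 1, 2, 2, 0, 0, 3, 1, 1, 1, 2, 0, 3, 0, 3, 3, 3, 3, 2, 0, 0, 3, 1, 1, 1, 2, 0, 3, 0, 3, 3, 3, 3, 0, 3, 2, 2, 2, 1, 2, 1, 3, 0, 0, 0, 2, 1, 1, 3, 1, 2, 2], [0, 2, 0, 0, 3, 1, 1, 1, 2, 0, 3, 0, 3, 3, 3, 2, 1, 2, 2, 2, 2, 1, 2, 1, 3, 0, 0,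 0, 2, 1, 1, 3, 2, 2, 2, 2, 1, 2, 1, 3, 0, 0, 0, 2, 1, 1, 3, 3, 1, 2, 0, 0, 3, 1, 1, 1, 2, 0, 3, 0, 3, 3, 3, 1, 2, 0, 0, 3, 1, 1, 1, 2, 0, 3, 0, 3, 3, 3, 0, 3, 3], [0, 2, 0, 0, 3, 1, 1, 1, 2, 0, 3, 0, 3, 3, 3, 2, 2, 0, 0, 3, 1, 1, 1, 2, 0, 3, 0, 3, 3, 3, 2, 0, 0, 3, 1, 1, 1, 2, 0, 3, 0, 3, 3, 3, 2, 2, 2, 2, 2, 1, 2, 1, 3, 0, 0, 0, 2, 1, 1, 3, 2, 2, 2, 2, 1, 3, 0, 3], [0, 0, 2, 2, 2, 1, 2, 1, 3, 0, 0, 0, 2, 1, 1, 3, 2, 2, 0, 0, 2, 2, 2, 2, 1, 2, 1, 3, 0, 0, 0, 2, 1, 1, 3, 0, 2, 0, 0, 3, 1, 1, 1, 2, 0, 3, 0, 3, 3, 3, 3, 3, 2, 0, 0, 3, 1, 1, 1, 2, 0, 3, 0, 3, 3, 3, 2, 2], [0, 0, 2, 2, 0, 0, 3, 1, 1, 1, 2, 0, 3,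 0, 3, 3, 3, 2, 0, 0, 3, 1, 1, 1, 2, 0, 3, 0, 3, 3, 3, 0, 2, 0, 0, 3, 1, 1, 1, 2, 0, 3, 0, 3, 3, 3, 2, 2, 2, 2, 1, 2, 1, 3, 0, 0, 0, 2, 1, 1, 3, 2, 2, 0, 0, 3, 1, 1, 1, 2, 0, 3, 0, 3, 3, 3, 3, 0, 0, 2, 2], [0, 0, 2, 2, 2, 2, 1, 2, 1, 3, 0, 0, 0, 2, 1, 1, 3, 0, 2, 2, 2, 1, 2, 1, 3, 0, 0, 0, 2, 1, 1, 3, 0, 2, 2, 2, 2, 1, 2, 1, 3, 0, 0, 0, 2, 1, 1, 3, 2, 2, 0, 0, 3, 1, 1, 1, 2, 0, 3, 0, 3, 3, 3, 3, 0, 0, 2, 2]],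
   [[0, 0, 0, 3, 3, 0, 2, 0, 0, 3, 1, 1, 1, 2, 0, 3, 0, 3, 3, 3, 2, 1, 2, 2, 2, 2, 1, 2, 1, 3, 0, 0, 0, 2, 1, 1, 3, 2, 2, 2, 2, 1, 2, 1, 3, 0, 0, 0, 2, 1, 1, 3, 3, 2, 0, 0, 3, 1, 1, 1, 2, 0, 3, 0, 3, 3, 3, 2, 0, 0, 3, 1, 1, 1, 2, 0, 3, 0, 3, 3, 3], [0, 0, 2, 0, 2, 2, 2, 1, 2, 1, 3, 0, 0, 0, 2, 1, 1, 3, 0, 2, 2, 2, 1, 2, 1, 3, 0, 0, 0, 2, 1, 1, 3, 3, 3, 0, 3, 2, 0, 0, 3, 1, 1, 1, 2, 0, 3, 0, 3, 3, 3, 0, 0, 2, 2], [0, 0, 2, 1, 2, 2, 2, 1, 2, 1, 3, 0, 0, 0, 2, 1, 1, 3, 2, 2, 2, 1, 2, 1, 3, 0, 0, 0, 2, 1, 1, 3, 1, 3, 3, 0, 3, 2, 0, 0, 3, 1, 1, 1, 2, 0, 3, 0, 3, 3, 3, 0, 0, 2, 2], [0, 0, 2, 1, 2, 2, 1, 2, 0, 0,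 3, 1, 1, 1, 2, 0, 3, 0, 3, 3, 3, 2, 0, 0, 3, 1, 1, 1, 2, 0, 3, 0, 3, 3, 3, 3, 1, 1, 3, 3, 0, 2, 2, 2, 1, 2, 1, 3, 0, 0, 0, 2, 1, 1, 3], [0, 0, 2, 2, 0, 0, 3, 1, 1, 1, 2, 0, 3, 0, 3, 3, 3, 1, 2, 2, 2, 1, 2, 1, 3, 0, 0, 0, 2, 1, 1, 3, 0, 3, 2, 0, 0, 3, 1, 1, 1, 2, 0, 3, 0, 3, 3, 3, 0, 2, 0, 0, 3, 1, 1, 1, 2, 0, 3, 0, 3, 3, 3, 3, 3, 2, 0, 0, 3, 1, 1, 1, 2, 0, 3, 0, 3, 3, 3, 2, 0, 0, 3, 1, 1, 1, 2, 0, 3, 0, 3, 3, 3, 2], [0, 0, 0, 2, 2, 2, 2, 0, 0, 3, 1, 1, 1, 2, 0, 3, 0, 3, 3, 3, 0, 2, 2, 2, 1, 2, 1, 3, 0, 0, 0, 2, 1, 1, 3, 2, 0, 2, 2, 2, 1, 2, 1, 3, 0, 0, 0, 2, 1, 1, 3, 1, 3, 2, 0, 0, 3, 1, 1, 1, 2, 0, 3, 0,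 3, 3, 3, 2], [0, 0, 0, 2, 0, 2, 2, 2, 1, 2, 1, 3, 0, 0, 0, 2, 1, 1, 3, 1, 3, 2, 0, 0, 3, 1, 1, 1, 2, 0, 3, 0, 3, 3, 3, 2, 0, 0, 0, 2, 2, 2], [0, 0, 0, 2, 2, 2, 2, 1, 2, 1, 3, 0, 0, 0, 2, 1, 1, 3, 0, 0, 3, 2, 0, 0, 3, 1, 1, 1, 2, 0, 3, 0, 3, 3, 3, 2, 0, 0, 0, 2, 2, 2], [0, 0, 0, 2, 0, 2, 2, 2, 1, 2, 1, 3, 0, 0, 0, 2, 1, 1, 3, 1, 3, 2, 0, 0, 3, 1, 1, 1, 2, 0, 3, 0, 3, 3, 3, 2, 2, 0, 0, 3, 1, 1, 1, 2, 0, 3, 0, 3, 3, 3, 0, 2, 2, 2, 1, 2, 1, 3, 0, 0, 0, 2, 1, 1, 3, 2, 2, 2]],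
   [[0, 0, 2, 2, 2, 1, 2, 1, 3, 0, 0, 0, 2, 1, 1, 3, 1, 2, 2, 2, 2, 1, 2, 1, 3, 0, 0, 0, 2, 1, 1, 3, 0, 2, 0, 2, 2, 2, 1, 2, 1, 3, 0, 0, 0, 2, 1, 1, 3, 0, 3, 0, 3, 2, 0, 0, 3, 1, 1, 1, 2, 0, 3, 0, 3, 3, 3, 2], [0, 0, 3, 2, 2, 2, 1, 2, 1, 3, 0, 0, 0, 2, 1, 1, 3, 2, 1, 2, 2, 2, 2, 1, 2, 1, 3, 0, 0, 0, 2, 1, 1, 3, 1, 2, 0, 0, 3, 1, 1, 1, 2, 0, 3, 0, 3, 3, 3, 2, 0, 0, 3, 1, 1, 1, 2, 0, 3, 0, 3, 3, 3, 3, 1, 2, 0, 0, 3, 1, 1, 1, 2, 0, 3, 0, 3, 3, 3, 3, 2, 0, 0, 3, 1, 1, 1, 2, 0, 3, 0, 3, 3, 3], [0, 0, 3, 1, 2, 0, 0, 3, 1, 1, 1, 2, 0, 3, 0, 3, 3, 3, 3, 2, 0, 0, 3, 1, 1, 1, 2, 0, 3, 0, 3, 3, 3, 0, 0, 3, 2, 2, 2, 1,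 2, 1, 3, 0, 0, 0, 2, 1, 1, 3, 2, 1, 2, 0, 2, 0, 0, 3, 1, 1, 1, 2, 0, 3, 0, 3, 3, 3], [0, 2, 0, 0, 3, 1, 1, 1, 2, 0, 3, 0, 3, 3, 3, 3, 0, 3, 1, 2, 1, 2, 2, 2, 2, 0, 0, 3, 1, 1, 1, 2, 0, 3, 0, 3, 3, 3, 1, 2, 2, 2, 0, 0, 3, 1, 1, 1, 2, 0, 3, 0, 3, 3, 3], [0, 0, 3, 2, 0, 0, 3, 1, 1, 1, 2, 0, 3, 0, 3, 3, 3, 1, 2, 2, 2, 1, 2, 1, 3, 0, 0, 0, 2, 1, 1, 3, 2, 0, 3, 0, 3, 3, 3, 2, 2, 2, 1, 2, 1, 3, 0, 0, 0, 2, 1, 1, 3, 2], [0, 0, 0, 2, 1, 1, 3, 2, 0, 0, 3, 1, 1, 1, 2, 0, 3, 0, 3, 3, 3, 2, 2, 2, 1, 2, 1, 3], [0, 0, 2, 2, 2, 2, 1, 2, 1, 3, 0, 0, 0, 2, 1, 1, 3, 2, 2, 1, 2, 2, 2, 1, 2, 1, 3, 0, 0, 0, 2, 1, 1, 3, 2, 2, 2,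 1, 2, 1, 3, 0, 0, 0, 2, 1, 1, 3, 3, 0, 2, 2, 2, 0, 0, 3, 1, 1, 1, 2, 0, 3, 0, 3, 3, 3, 3, 2, 0, 0, 3, 1, 1, 1, 2, 0, 3, 0, 3, 3, 3], [0, 2, 0, 0, 3, 1, 1, 1, 2, 0, 3, 0, 3, 3, 3, 3, 0, 3, 3, 3, 3, 2, 0, 0, 3, 1, 1, 1, 2, 0, 3, 0, 3, 3, 3, 1, 2, 2, 2, 1, 2, 1, 3, 0, 0, 0, 2, 1, 1, 3, 0, 2, 2, 2, 2, 2, 1, 2, 1, 3, 0, 0, 0, 2, 1, 1, 3], [0, 0, 0, 0, 3, 0, 3, 3, 3, 3, 2, 0, 0, 3, 1, 1, 1, 2, 0, 3, 0, 3, 3, 3, 1, 2, 2, 2, 1, 2, 1, 3, 0, 0, 0, 2, 1, 1, 3, 0, 2, 2]],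
   [[0, 2, 0, 0, 3, 1, 1, 1, 2, 0, 3, 0, 3, 3, 3, 0, 3, 3, 1, 2, 2, 2, 1, 2, 1, 3, 0, 0, 0, 2, 1, 1, 3, 2, 2, 2, 1, 2, 1, 3, 0, 0, 0, 2, 1, 1, 3, 2, 2, 2, 2, 1, 2, 1, 3, 0, 0, 0, 2, 1, 1, 3, 2, 2, 2, 2, 1, 2, 1, 3, 0, 0, 0, 2, 1, 1, 3, 2, 2, 1, 2], [0, 2, 0, 0, 3, 1, 1, 1, 2, 0, 3, 0, 3, 3, 3, 3, 1, 2, 2, 1, 2, 0, 0, 3, 1, 1, 1, 2, 0, 3, 0, 3, 3, 3, 2, 0, 0, 3, 1, 1, 1, 2, 0, 3, 0, 3, 3, 3, 0, 2, 2, 2, 2, 1, 2, 1, 3, 0, 0, 0, 2, 1, 1, 3, 2, 2, 1, 2], [0, 3, 2, 0, 0, 3, 1, 1, 1, 2, 0, 3, 0, 3, 3, 3, 2, 1, 3, 2, 2, 2, 1, 2, 1, 3, 0, 0, 0, 2, 1, 1, 3, 2, 2, 2, 1, 2, 1, 3, 0, 0, 0, 2, 1, 1, 3, 2, 2, 2, 2, 2, 2,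 2, 2, 1, 2, 1, 3, 0, 0, 0, 2, 1, 1, 3, 3, 3], [0, 2, 2, 2, 1, 2, 1, 3, 0, 0, 0, 2, 1, 1, 3, 2, 2, 2, 2, 1, 2, 1, 3, 0, 0, 0, 2, 1, 1, 3, 2, 2, 0, 0, 3, 1, 1, 1, 2, 0, 3, 0, 3, 3, 3, 1, 3, 2, 2, 2, 1, 2, 1, 3, 0, 0, 0, 2, 1, 1, 3, 2, 2, 2, 1, 2, 1, 3, 0, 0, 0, 2, 1, 1, 3, 3, 3, 3, 3, 3, 3], [0, 2, 0, 0, 3, 1, 1, 1, 2, 0, 3, 0, 3, 3, 3, 2, 0, 0, 3, 1, 1, 1, 2, 0, 3, 0, 3, 3, 3, 1, 3, 3, 0, 3, 3, 2, 2, 2, 1, 2, 1, 3, 0, 0, 0, 2, 1, 1, 3, 2, 0, 2, 2, 0, 0, 3, 1, 1, 1, 2, 0, 3, 0, 3, 3, 3, 3, 3], [0, 0, 2, 2, 2, 2, 1, 2, 1, 3, 0, 0, 0, 2, 1, 1, 3, 2, 2, 2, 0, 0, 3, 1, 1, 1, 2, 0, 3, 0, 3, 3, 3, 3, 3, 1, 1, 2, 2,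 2, 1, 2, 1, 3, 0, 0, 0, 2, 1, 1, 3, 2, 2, 2, 1, 2, 1, 3, 0, 0, 0, 2, 1, 1, 3, 3, 2, 2, 2, 1, 2, 1, 3, 0, 0, 0, 2, 1, 1, 3, 3], [0, 0, 2, 2, 2, 2, 1, 2, 1, 3, 0, 0, 0, 2, 1, 1, 3, 2, 2, 2, 0, 0, 3, 1, 1, 1, 2, 0, 3, 0, 3, 3, 3, 3, 3, 2, 2, 2, 1, 2, 1, 3, 0, 0, 0, 2, 1, 1, 3, 0, 2, 2, 2, 1, 2, 1, 3, 0, 0, 0, 2, 1, 1, 3, 0, 3, 2, 2, 2, 1, 2, 1, 3, 0, 0, 0, 2, 1, 1, 3, 3]],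
   [[0, 0, 2, 2, 2, 2, 1, 2, 1, 3, 0, 0, 0, 2, 1, 1, 3, 2, 2, 2, 0, 0, 3, 1, 1, 1, 2, 0, 3, 0, 3, 3, 3, 3, 3, 2, 0, 0, 3, 1, 1, 1, 2, 0, 3, 0, 3, 3, 3, 2, 0, 0, 3, 1, 1, 1, 2, 0, 3, 0, 3, 3, 3, 0, 2, 0, 0, 3, 1, 1, 1, 2, 0, 3, 0, 3, 3, 3, 3, 2, 2, 2, 1, 2, 1, 3, 0, 0, 0, 2, 1, 1, 3, 3], [0, 0, 3, 0, 2, 0, 0, 3, 1, 1, 1, 2, 0, 3, 0, 3, 3, 3, 1, 2, 2, 2, 1, 2, 1, 3, 0, 0, 0, 2, 1, 1, 3, 3, 2, 2, 2, 1, 2, 1, 3, 0, 0, 0, 2, 1, 1, 3, 2, 2, 2, 1, 2, 1, 3, 0, 0, 0, 2, 1, 1, 3, 2, 2, 2, 2, 2, 1, 2, 1, 3, 0, 0, 0, 2, 1, 1, 3, 1, 2, 2, 2, 1, 2, 1, 3, 0, 0, 0, 2, 1, 1, 3, 2], [0, 2, 0, 0, 3, 1, 1, 1, 2, 0, 3, 0, 3, 3,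 3, 1, 3, 0, 3, 0, 2, 0, 2, 1, 2, 2, 0, 0, 3, 1, 1, 1, 2, 0, 3, 0, 3, 3, 3, 3, 3, 2, 0, 0, 3, 1, 1, 1, 2, 0, 3, 0, 3, 3, 3], [0, 0, 2, 2, 2, 1, 2, 1, 3, 0, 0, 0, 2, 1, 1, 3, 2, 2, 2, 2, 2, 1, 2, 1, 3, 0, 0, 0, 2, 1, 1, 3, 3, 0, 3, 1, 3, 1, 2, 1, 2, 2, 2, 2, 1, 2, 1, 3, 0, 0, 0, 2, 1, 1, 3], [0, 2, 2, 2, 1, 2, 1, 3, 0, 0, 0, 2, 1, 1, 3, 3, 0, 3, 0, 2, 0, 2, 1, 2, 2, 0, 0, 3, 1, 1, 1, 2, 0, 3, 0, 3, 3, 3, 3, 3, 2, 2, 2, 1, 2, 1, 3, 0, 0, 0, 2, 1, 1, 3, 2, 2, 2, 1, 2, 1, 3, 0, 0, 0, 2, 1, 1, 3], [0, 0, 2, 0, 2, 2, 1, 2, 0, 2, 2, 2, 1, 2, 1, 3, 0, 0, 0, 2, 1, 1, 3, 1, 2, 2, 2, 1, 2, 1, 3, 0, 0, 0, 2, 1, 1, 3, 2,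 2, 2, 2, 2, 1, 2, 1, 3, 0, 0, 0, 2, 1, 1, 3, 3], [0, 2, 2, 0, 0, 3, 1, 1, 1, 2, 0, 3, 0, 3, 3, 3, 3, 3, 2, 2, 2, 1, 2, 1, 3, 0, 0, 0, 2, 1, 1, 3, 3, 2, 0, 0, 3, 1, 1, 1, 2, 0, 3, 0, 3, 3, 3, 2, 1, 2, 1, 2, 2, 0, 0, 3, 1, 1, 1, 2, 0, 3, 0, 3, 3, 3, 2, 0, 0, 3, 1, 1, 1, 2, 0, 3, 0, 3, 3, 3, 3], [0, 2, 2, 2, 1, 2, 1, 3, 0, 0, 0, 2, 1, 1, 3, 2, 0, 2, 1, 2, 0, 0, 3, 1, 1, 1, 2, 0, 3, 0, 3, 3, 3, 2, 2, 2, 0, 0, 3, 1, 1, 1, 2, 0, 3, 0, 3, 3, 3, 2, 0, 0, 3, 1, 1, 1, 2, 0, 3, 0, 3, 3, 3, 2, 2, 1, 2, 2]],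
   [[0, 2, 0, 0, 3, 1, 1, 1, 2, 0, 3, 0, 3, 3, 3, 2, 0, 0, 3, 1, 1, 1, 2, 0, 3, 0, 3, 3, 3, 3, 0, 2, 2, 0, 0, 3, 1, 1, 1, 2, 0, 3, 0, 3, 3, 3, 3, 3, 2, 2, 2, 1, 2, 1, 3, 0, 0, 0, 2, 1, 1, 3, 3, 2, 0, 0, 3, 1, 1, 1, 2, 0, 3, 0, 3, 3, 3, 0, 3, 0, 3], [0, 0, 3, 1, 2, 1, 2, 0, 3, 3, 0, 2, 1, 2, 1, 3], [0, 2, 0, 0, 3, 1, 1, 1, 2, 0, 3, 0, 3, 3, 3, 2, 0, 2, 1, 2, 0, 0, 3, 1, 1, 1, 2, 0, 3, 0, 3, 3, 3, 2, 2, 2, 0, 0, 3, 1, 1, 1, 2, 0, 3, 0, 3, 3, 3, 2, 0, 2, 2, 0, 0, 3, 1, 1, 1, 2, 0, 3, 0, 3, 3, 3, 3, 3], [0, 0, 2, 2, 2, 1, 3, 2, 2, 2, 1, 2, 1, 3, 0, 0, 0, 2, 1, 1, 3, 0, 3, 3, 1, 3, 0, 2, 0, 0, 3, 1, 1, 1, 2, 0,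 3, 0, 3, 3, 3], [0, 0, 3, 3, 2, 2, 2, 1, 2, 1, 3, 0, 0, 0, 2, 1, 1, 3, 1, 2, 0, 0, 3, 1, 1, 1, 2, 0, 3, 0, 3, 3, 3, 2, 1, 3, 3, 3, 3, 3, 3, 3], [0, 2, 2, 2, 1, 2, 1, 3, 0, 0, 0, 2, 1, 1, 3, 0, 3, 2, 0, 0, 3, 1, 1, 1, 2, 0, 3, 0, 3, 3, 3, 2, 0, 0, 3, 1, 1, 1, 2, 0, 3, 0, 3, 3, 3, 0, 2, 2, 1, 3, 1, 2, 2, 1, 2, 2, 2, 1, 2, 1, 3, 0, 0, 0, 2, 1, 1, 3], [0, 0, 3, 0, 2, 2, 2, 1, 2, 1, 3, 0, 0, 0, 2, 1, 1, 3, 0, 2, 2, 2, 2, 1, 2, 1, 3, 0, 0, 0, 2, 1, 1, 3, 2, 1, 2, 0, 0, 3, 1, 1, 1, 2, 0, 3, 0, 3, 3, 3, 2, 0, 0, 3, 1, 1, 1, 2, 0, 3, 0, 3, 3, 3, 3, 0, 2, 2, 2, 1, 2, 1, 3, 0, 0, 0, 2, 1, 1, 3, 2], [0, 0, 2, 0, 0, 3,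 1, 1, 1, 2, 0, 3, 0, 3, 3, 3, 2, 1, 2, 2, 2, 2, 0, 0, 3, 3, 1, 2, 2, 2, 1, 2, 1, 3, 0, 0, 0, 2, 1, 1, 3], [0, 0, 2, 2, 2, 1, 2, 1, 3, 0, 0, 0, 2, 1, 1, 3, 3, 3, 0, 0, 2, 2, 2, 2, 1, 2, 0, 2, 0, 0, 3, 1, 1, 1, 2, 0, 3, 0, 3, 3, 3], [0, 0, 3, 3, 1, 2, 2, 2, 1, 2, 1, 3, 0, 0, 0, 2, 1, 1, 3, 1, 2, 0, 0, 3, 1, 1, 1, 2, 0, 3, 0, 3, 3, 3, 0, 2, 1, 2, 2, 2, 2], [0, 0, 2, 2, 2, 2, 1, 2, 1, 3, 0, 0, 0, 2, 1, 1, 3, 0, 2, 0, 2, 2, 2, 1, 2, 1, 3, 0, 0, 0, 2, 1, 1, 3, 0, 3, 0, 3, 2, 0, 0, 3, 1, 1, 1, 2, 0, 3, 0, 3, 3, 3, 2, 0, 2, 2, 2, 1, 2, 1, 3, 0, 0, 0, 2, 1, 1, 3]],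
   [[0, 0, 2, 1, 3, 3, 1, 1, 3, 3, 1, 2, 0, 0, 2, 2], [0, 0, 2, 2, 2, 2, 2, 1, 2, 1, 3, 0, 0, 0, 2, 1, 1, 3, 2, 2, 2, 1, 2, 1, 3, 0, 0, 0, 2, 1, 1, 3, 1, 3, 3, 0, 3, 2, 0, 0, 3, 1, 1, 1, 2, 0, 3, 0, 3, 3, 3, 3, 0, 2, 2], [0, 2, 0, 0, 3, 1, 1, 1, 2, 0, 3, 0, 3, 3, 3, 1, 2, 0, 0, 3, 1, 1, 1, 2, 0, 3, 0, 3, 3, 3, 2, 2, 1, 3, 1, 2, 2, 0, 2, 2, 2, 1, 2, 1, 3, 0, 0, 0, 2, 1, 1, 3, 1, 2, 2, 2, 1, 2, 1, 3, 0, 0, 0, 2, 1, 1, 3, 3], [0, 0, 2, 1, 3, 0, 2, 1, 3, 0, 2, 2, 0, 2, 0, 2], [0, 2, 0, 0, 3, 1, 1, 1, 2, 0, 3, 0, 3, 3, 3, 1, 3, 2, 2, 2, 1, 2, 1, 3, 0, 0, 0, 2, 1, 1, 3, 3, 1, 3, 1, 2, 0, 0, 3, 1, 1, 1, 2, 0, 3,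 0, 3, 3, 3, 2, 2, 2, 2, 1, 2, 1, 3, 0, 0, 0, 2, 1, 1, 3, 0, 3, 1, 3], [0, 0, 2, 0, 2, 1, 2, 0, 0, 3, 1, 1, 1, 2, 0, 3, 0, 3, 3, 3, 3, 2, 2, 2, 1, 2, 1, 3, 0, 0, 0, 2, 1, 1, 3, 0, 2, 0, 2, 2, 0, 0, 3, 1, 1, 1, 2, 0, 3, 0, 3, 3, 3, 2, 2, 2, 2, 1, 2, 1, 3, 0, 0, 0, 2, 1, 1, 3], [0, 0, 2, 0, 2, 1, 2, 0, 0, 3, 1, 1, 1, 2, 0, 3, 0, 3, 3, 3, 3, 2, 2, 2, 1, 2, 1, 3, 0, 0, 0, 2, 1, 1, 3, 3, 1, 3, 1, 2, 0, 0, 3, 1, 1, 1, 2, 0, 3, 0, 3, 3, 3, 2, 2, 2, 2, 1, 2, 1, 3, 0, 0, 0, 2, 1, 1, 3], [0, 2, 0, 0, 3, 1, 1, 1, 2, 0, 3, 0, 3, 3, 3, 1, 3, 2, 2, 2, 1, 2, 1, 3, 0, 0, 0, 2, 1, 1, 3, 0, 2, 0, 2, 2, 0, 0, 3, 1, 1, 1, 2, 0,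 3, 0, 3, 3, 3, 2, 2, 2, 2, 1, 2, 1, 3, 0, 0, 0, 2, 1, 1, 3, 0, 3, 1, 3], [0, 0, 2, 0, 2, 2, 0, 0, 3, 1, 1, 1, 2, 0, 3, 0, 3, 3, 3, 2, 2, 2, 2, 1, 2, 1, 3, 0, 0, 0, 2, 1, 1, 3, 0, 2, 0, 0, 3, 1, 1, 1, 2, 0, 3, 0, 3, 3, 3, 2, 2, 2, 2, 1, 2, 1, 3, 0, 0, 0, 2, 1, 1, 3, 0, 2, 0, 0, 3, 1, 1, 1, 2, 0, 3, 0, 3, 3, 3, 2, 2, 2, 2, 1, 2, 1, 3, 0, 0, 0, 2, 1, 1, 3]],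
   [[0, 2, 0, 0, 3, 1, 1, 1, 2, 0, 3, 0, 3, 3, 3, 1, 3, 2, 2, 2, 1, 2, 1, 3, 0, 0, 0, 2, 1, 1, 3, 1, 2, 0, 0, 3, 1, 1, 1, 2, 0, 3, 0, 3, 3, 3, 3, 2, 2, 2, 1, 2, 1, 3, 0, 0, 0, 2, 1, 1, 3, 1, 2, 0, 0, 3, 1, 1, 1, 2, 0, 3, 0, 3, 3, 3, 3, 2, 2, 2, 1, 2, 1, 3, 0, 0, 0, 2, 1, 1, 3, 3, 1, 3], [0, 2, 0, 0, 3, 1, 1, 1, 2, 0, 3, 0, 3, 3, 3, 2, 1, 2, 0, 0, 3, 1, 1, 1, 2, 0, 3, 0, 3, 3, 3, 2, 2, 0, 0, 3, 1, 1, 1, 2, 0, 3, 0, 3, 3, 3, 0, 2, 2, 2, 2, 1, 2, 1, 3, 0, 0, 0, 2, 1, 1, 3, 0, 2, 1, 2, 1, 2], [0, 0, 2, 0, 0, 3, 1, 1, 1, 2, 0, 3, 0, 3, 3, 3, 2, 0, 3, 0, 3, 3, 3, 2, 2, 2, 1, 2, 1, 3, 0, 0, 0, 2, 1, 1, 3, 2, 0, 0,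 3, 2, 2, 2, 1, 2, 1, 3, 0, 0, 0, 2, 1, 1, 3], [0, 2, 2, 2, 1, 2, 1, 3, 0, 0, 0, 2, 1, 1, 3, 2, 1, 2, 0, 0, 3, 1, 1, 1, 2, 0, 3, 0, 3, 3, 3, 2, 0, 3, 3, 2, 0, 0, 3, 1, 1, 1, 2, 0, 3, 0, 3, 3, 3, 0, 2, 0, 2, 2, 2, 2, 1, 2, 1, 3, 0, 0, 0, 2, 1, 1, 3, 3], [0, 2, 2, 2, 1, 2, 1, 3, 0, 0, 0, 2, 1, 1, 3, 2, 1, 2, 0, 0, 3, 1, 1, 1, 2, 0, 3, 0, 3, 3, 3, 2, 0, 3, 3, 2, 0, 0, 3, 1, 1, 1, 2, 0, 3, 0, 3, 3, 3, 3, 1, 3, 1, 2, 2, 2, 1, 2, 1, 3, 0, 0, 0, 2, 1, 1, 3, 3], [0, 0, 2, 0, 0, 3, 1, 1, 1, 2, 0, 3, 0, 3, 3, 3, 2, 1, 2, 0, 0, 3, 1, 1, 1, 2, 0, 3, 0, 3, 3, 3, 2, 2, 0, 0, 3, 1, 1, 1, 2, 0, 3, 0, 3, 3, 3, 0, 2, 0, 2, 2,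 2, 1, 2, 1, 3, 0, 0, 0, 2, 1, 1, 3, 1, 3, 0, 3], [0, 2, 0, 0, 3, 1, 1, 1, 2, 0, 3, 0, 3, 3, 3, 1, 3, 1, 2, 2, 2, 1, 2, 1, 3, 0, 0, 0, 2, 1, 1, 3, 3, 2, 2, 2, 1, 2, 1, 3, 0, 0, 0, 2, 1, 1, 3, 0, 3, 1, 2, 2, 2, 1, 2, 1, 3, 0, 0, 0, 2, 1, 1, 3, 0, 2, 1, 2], [0, 0, 0, 3, 2, 0, 0, 3, 1, 1, 1, 2, 0, 3, 0, 3, 3, 3, 3, 2, 0, 0, 3, 1, 1, 1, 2, 0, 3, 0, 3, 3, 3, 3, 2, 2, 2, 1, 2, 1, 3, 0, 0, 0, 2, 1, 1, 3, 1, 2, 0, 0, 3, 1, 1, 1, 2, 0, 3, 0, 3, 3, 3, 3, 3, 3, 1, 3], [0, 0, 0, 2, 2, 1, 1, 3, 3, 3, 1, 2, 1, 2, 1, 2]],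
   [[0, 0, 2, 0, 0, 3, 1, 1, 1, 2, 0, 3, 0, 3, 3, 3, 0, 2, 0, 0, 3, 1, 1, 1, 2, 0, 3, 0, 3, 3, 3, 3, 3, 0, 2, 0, 0, 3, 1, 1, 1, 2, 0, 3, 0, 3, 3, 3, 2, 1, 2, 2, 2, 2, 1, 2, 1, 3, 0, 0, 0, 2, 1, 1, 3, 2, 2, 2, 2, 1, 2, 1, 3, 0, 0, 0, 2, 1, 1, 3, 3], [0, 0, 2, 1, 1, 2, 2, 2, 1, 2, 1, 3, 0, 0, 0, 2, 1, 1, 3, 2, 2, 2, 1, 2, 1, 3, 0, 0, 0, 2, 1, 1, 3, 2, 2, 2, 2, 1, 2, 1, 3, 0, 0, 0, 2, 1, 1, 3, 2, 2, 0, 0, 3, 1, 1, 1, 2, 0, 3, 0, 3, 3, 3, 3, 0, 0, 2, 2], [0, 2, 0, 0, 3, 1, 1, 1, 2, 0, 3, 0, 3, 3, 3, 0, 2, 2, 2, 2, 1, 2, 1, 3, 0, 0, 0, 2, 1, 1, 3, 3, 2, 2, 2, 1, 2, 1, 3, 0, 0, 0, 2, 1, 1, 3, 0, 2, 1, 3, 3, 2, 2,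 2, 1, 2, 1, 3, 0, 0, 0, 2, 1, 1, 3, 0, 2, 0, 0, 3, 1, 1, 1, 2, 0, 3, 0, 3, 3, 3, 3], [0, 0, 2, 2, 1, 2, 2, 2, 1, 2, 1, 3, 0, 0, 0, 2, 1, 1, 3, 3, 0, 3, 3, 1, 2, 2, 2, 1, 2, 1, 3, 0, 0, 0, 2, 1, 1, 3, 2, 2, 2, 1, 2, 1, 3, 0, 0, 0, 2, 1, 1, 3, 0, 2, 2, 2, 1, 2, 1, 3, 0, 0, 0, 2, 1, 1, 3, 2], [0, 0, 3, 2, 0, 0, 3, 1, 1, 1, 2, 0, 3, 0, 3, 3, 3, 2, 2, 0, 0, 3, 1, 1, 1, 2, 0, 3, 0, 3, 3, 3, 2, 0, 0, 3, 1, 1, 1, 2, 0, 3, 0, 3, 3, 3, 0, 2, 1, 2, 2, 2, 2, 1, 2, 1, 3, 0, 0, 0, 2, 1, 1, 3, 2, 2, 2, 2, 1, 2, 1, 3, 0, 0, 0, 2, 1, 1, 3, 1, 2], [0, 0, 2, 0, 0, 3, 1, 1, 1, 2, 0, 3, 0, 3, 3, 3, 3, 3, 0, 3, 2, 0, 0, 3, 1, 1,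 1, 2, 0, 3, 0, 3, 3, 3, 2, 2, 2, 2, 1, 2, 1, 3, 0, 0, 0, 2, 1, 1, 3, 3, 2, 0, 0, 3, 1, 1, 1, 2, 0, 3, 0, 3, 3, 3, 3, 2, 2, 2, 1, 2, 1, 3, 0, 0, 0, 2, 1, 1, 3], [0, 2, 0, 0, 3, 1, 1, 1, 2, 0, 3, 0, 3, 3, 3, 2, 2, 2, 2, 1, 2, 1, 3, 0, 0, 0, 2, 1, 1, 3, 2, 2, 0, 0, 3, 1, 1, 1, 2, 0, 3, 0, 3, 3, 3, 3, 2, 2, 2, 1, 2, 1, 3, 0, 0, 0, 2, 1, 1, 3, 2, 1, 2, 2, 1, 2, 2, 2, 1, 2, 1, 3, 0, 0, 0, 2, 1, 1, 3]],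
   [[0, 0, 3, 2, 2, 2, 1, 2, 1, 3, 0, 0, 0, 2, 1, 1, 3, 3, 0, 2, 0, 0, 3, 1, 1, 1, 2, 0, 3, 0, 3, 3, 3, 3, 3, 1, 2, 0, 0, 3, 1, 1, 1, 2, 0, 3, 0, 3, 3, 3, 2, 0, 0, 3, 1, 1, 1, 2, 0, 3, 0, 3, 3, 3, 1, 3, 1, 2], [0, 0, 2, 0, 0, 3, 1, 1, 1, 2, 0, 3, 0, 3, 3, 3, 2, 2, 0, 0, 3, 1, 1, 1, 2, 0, 3, 0, 3, 3, 3, 0, 2, 2, 2, 2, 1, 2, 1, 3, 0, 0, 0, 2, 1, 1, 3, 2, 0, 3, 3, 0, 0, 2, 2, 2, 1, 2, 1, 3, 0, 0, 0, 2, 1, 1, 3, 2], [0, 0, 2, 2, 2, 1, 2, 1, 3, 0, 0, 0, 2, 1, 1, 3, 2, 1, 2, 0, 0, 3, 1, 1, 1, 2, 0, 3, 0, 3, 3, 3, 0, 2, 2, 0, 0, 3, 1, 1, 1, 2, 0, 3, 0, 3, 3, 3, 0, 2, 2, 2, 2, 1, 2, 1, 3, 0, 0, 0, 2, 1, 1, 3, 2, 0,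 3, 3], [0, 2, 0, 3, 3, 3, 2, 0, 0, 3, 1, 1, 1, 2, 0, 3, 0, 3, 3, 3, 0, 3, 1, 3, 3, 2, 2, 2, 1, 2, 1, 3, 0, 0, 0, 2, 1, 1, 3, 0, 2, 2, 2, 2, 1, 2, 1, 3, 0, 0, 0, 2, 1, 1, 3], [0, 0, 3, 3, 3, 3, 0, 3, 2, 2, 2, 1, 2, 1, 3, 0, 0, 0, 2, 1, 1, 3, 0, 2, 0, 0, 3, 1, 1, 1, 2, 0, 3, 0, 3, 3, 3, 2, 2, 2, 2, 2, 1, 2, 1, 3, 0, 0, 0, 2, 1, 1, 3, 1, 2, 0, 0, 3, 1, 1, 1, 2, 0, 3, 0, 3, 3, 3], [0, 2, 0, 0, 3, 1, 1, 1, 2, 0, 3, 0, 3, 3, 3, 3, 2, 2, 2, 1, 2, 1, 3, 0, 0, 0, 2, 1, 1, 3, 3, 1, 3, 0, 2, 2, 2, 1, 2, 1, 3, 0, 0, 0, 2, 1, 1, 3, 0, 2, 1, 2, 2, 0, 0, 3, 1, 1, 1, 2, 0, 3, 0, 3, 3, 3, 2, 2], [0, 0, 3, 3, 1, 2, 2, 2, 1,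 2, 1, 3, 0, 0, 0, 2, 1, 1, 3, 2, 2, 0, 0, 3, 1, 1, 1, 2, 0, 3, 0, 3, 3, 3, 1, 2, 2, 2, 1, 2, 1, 3, 0, 0, 0, 2, 1, 1, 3, 2, 2, 2, 0, 0, 3, 1, 1, 1, 2, 0, 3, 0, 3, 3, 3, 3, 0, 2], [0, 0, 0, 2, 0, 3, 2, 0, 0, 3, 1, 1, 1, 2, 0, 3, 0, 3, 3, 3, 2, 2, 2, 2, 1, 2, 1, 3, 0, 0, 0, 2, 1, 1, 3, 3, 0, 0, 3, 2, 0, 0, 3, 1, 1, 1, 2, 0, 3, 0, 3, 3, 3, 2], [0, 0, 2, 1, 1, 3, 2, 0, 0, 3, 1, 1, 1, 2, 0, 3, 0, 3, 3, 3, 0, 2, 0, 0, 3, 1, 1, 1, 2, 0, 3, 0, 3, 3, 3, 3, 3, 2, 2, 2, 1, 2, 1, 3, 0, 0, 0, 2, 1, 1, 3, 2, 2, 2, 1, 2, 1, 3, 0, 0, 0, 2, 1, 1, 3, 2, 2, 2, 1, 2, 1, 3, 0, 0, 0, 2, 1, 1, 3, 2]],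
   [[0, 2, 2, 2, 2, 2, 1, 2, 1, 3, 0, 0, 0, 2, 1, 1, 3, 2, 2, 2, 2, 1, 2, 1, 3, 0, 0, 0, 2, 1, 1, 3, 3, 2, 2, 2, 1, 2, 1, 3, 0, 0, 0, 2, 1, 1, 3, 2, 2, 0, 0, 3, 1, 1, 1, 2, 0, 3, 0, 3, 3, 3, 2, 0, 0, 3, 1, 1, 1, 2, 0, 3, 0, 3, 3, 3, 0, 3, 3, 3, 2, 0, 0, 3, 1, 1, 1, 2, 0, 3, 0, 3, 3, 3], [0, 3, 2, 0, 0, 3, 1, 1, 1, 2, 0, 3, 0, 3, 3, 3, 3, 3, 2, 0, 0, 3, 1, 1, 1, 2, 0, 3, 0, 3, 3, 3, 2, 2, 1, 2, 0, 0, 3, 1, 1, 1, 2, 0, 3, 0, 3, 3, 3, 2, 0, 0, 3, 1, 1, 1, 2, 0, 3, 0, 3, 3, 3, 3, 2, 2, 2, 1, 2, 1, 3, 0, 0, 0, 2, 1, 1, 3, 2, 2, 2, 2, 1, 2, 1, 3, 0, 0, 0, 2, 1, 1, 3, 2], [0, 0, 2, 2, 2, 1, 2, 1, 3, 0, 0, 0, 2, 1,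 1, 3, 1, 2, 1, 2, 2, 1, 2, 0, 0, 3, 1, 1, 1, 2, 0, 3, 0, 3, 3, 3, 2, 0, 0, 3, 1, 1, 1, 2, 0, 3, 0, 3, 3, 3, 3, 1, 1, 3, 3], [0, 0, 2, 0, 0, 3, 1, 1, 1, 2, 0, 3, 0, 3, 3, 3, 2, 1, 3, 2, 0, 0, 3, 1, 1, 1, 2, 0, 3, 0, 3, 3, 3, 3, 2, 0, 0, 3, 1, 1, 1, 2, 0, 3, 0, 3, 3, 3, 2, 2, 0, 0, 3, 1, 1, 1, 2, 0, 3, 0, 3, 3, 3, 1, 2, 1, 2, 2], [0, 0, 2, 2, 2, 1, 2, 1, 3, 0, 0, 0, 2, 1, 1, 3, 2, 1, 2, 2, 0, 0, 3, 1, 1, 1, 2, 0, 3, 0, 3, 3, 3, 3, 2, 2, 2, 1, 2, 1, 3, 0, 0, 0, 2, 1, 1, 3, 1, 2, 2, 2, 1, 2, 1, 3, 0, 0, 0, 2, 1, 1, 3, 3, 2, 0, 0, 3, 1, 1, 1, 2, 0, 3, 0, 3, 3, 3, 2, 2, 0, 0, 3, 1, 1, 1, 2, 0, 3, 0, 3, 3, 3, 3],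 [0, 2, 0, 0, 3, 1, 1, 1, 2, 0, 3, 0, 3, 3, 3, 2, 2, 2, 2, 1, 2, 1, 3, 0, 0, 0, 2, 1, 1, 3, 3, 2, 2, 2, 1, 2, 1, 3, 0, 0, 0, 2, 1, 1, 3, 2, 2, 2, 2, 1, 2, 1, 3, 0, 0, 0, 2, 1, 1, 3, 0, 3, 3, 3, 3, 2, 2, 2, 1, 2, 1, 3, 0, 0, 0, 2, 1, 1, 3, 0, 2], [0, 0, 3, 2, 2, 2, 1, 2, 1, 3, 0, 0, 0, 2, 1, 1, 3, 1, 3, 2, 0, 0, 3, 1, 1, 1, 2, 0, 3, 0, 3, 3, 3, 3, 2, 2, 2, 1, 2, 1, 3, 0, 0, 0, 2, 1, 1, 3, 2, 2, 2, 2, 1, 2, 1, 3, 0, 0, 0, 2, 1, 1, 3, 1, 2, 0, 3, 2, 2, 2, 1, 2, 1, 3, 0, 0, 0, 2, 1, 1, 3]],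
   [[0, 2, 0, 0, 3, 1, 1, 1, 2, 0, 3, 0, 3, 3, 3, 1, 2, 1, 3, 0, 2, 0, 0, 3, 1, 1, 1, 2, 0, 3, 0, 3, 3, 3, 3, 2, 0, 0, 3, 1, 1, 1, 2, 0, 3, 0, 3, 3, 3, 2, 2, 2, 2, 1, 2, 1, 3, 0, 0, 0, 2, 1, 1, 3, 2, 0, 2, 0, 0, 3, 1, 1, 1, 2, 0, 3, 0, 3, 3, 3, 2], [0, 0, 2, 2, 2, 2, 1, 2, 1, 3, 0, 0, 0, 2, 1, 1, 3, 3, 2, 0, 0, 3, 1, 1, 1, 2, 0, 3, 0, 3, 3, 3, 2, 2, 2, 0, 0, 3, 1, 1, 1, 2, 0, 3, 0, 3, 3, 3, 2, 0, 0, 3, 1, 1, 1, 2, 0, 3, 0, 3, 3, 3, 0, 2, 2, 0, 2, 2, 2, 1, 2, 1, 3, 0, 0, 0, 2, 1, 1, 3, 2], [0, 2, 2, 2, 1, 2, 2, 2, 1, 2, 1, 3, 0, 0, 0, 2, 1, 1, 3, 2, 2, 2, 2, 1, 2, 1, 3, 0, 0, 0, 2, 1, 1, 3, 2, 2, 1, 2, 0, 0,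 3, 1, 1, 1, 2, 0, 3, 0, 3, 3, 3, 2, 0, 0, 3, 1, 1, 1, 2, 0, 3, 0, 3, 3, 3, 2, 2, 0, 0, 3, 1, 1, 1, 2, 0, 3, 0, 3, 3, 3, 3], [0, 0, 3, 1, 2, 2, 2, 2, 1, 2, 1, 3, 0, 0, 0, 2, 1, 1, 3, 2, 2, 2, 1, 2, 1, 3, 0, 0, 0, 2, 1, 1, 3, 3, 1, 2, 0, 0, 3, 1, 1, 1, 2, 0, 3, 0, 3, 3, 3, 2, 1, 2, 2, 2, 2, 1, 2, 1, 3, 0, 0, 0, 2, 1, 1, 3, 3, 3], [0, 2, 0, 0, 3, 1, 1, 1, 2, 0, 3, 0, 3, 3, 3, 2, 0, 0, 3, 1, 1, 1, 2, 0, 3, 0, 3, 3, 3, 0, 2, 2, 0, 0, 3, 1, 1, 1, 2, 0, 3, 0, 3, 3, 3, 3, 2, 0, 0, 3, 1, 1, 1, 2, 0, 3, 0, 3, 3, 3, 3, 0, 3, 2, 2, 2, 1, 2, 1, 3, 0, 0, 0, 2, 1, 1, 3, 1, 2, 2, 2, 0, 0, 3, 1, 1, 1, 2, 0, 3, 0, 3, 3, 3],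 [0, 0, 2, 2, 0, 0, 3, 1, 1, 1, 2, 0, 3, 0, 3, 3, 3, 1, 2, 1, 2, 2, 0, 0, 3, 1, 1, 1, 2, 0, 3, 0, 3, 3, 3, 0, 2, 2, 2, 0, 0, 3, 1, 1, 1, 2, 0, 3, 0, 3, 3, 3, 0, 0, 3], [0, 0, 2, 2, 0, 0, 3, 1, 1, 1, 2, 0, 3, 0, 3, 3, 3, 2, 0, 0, 3, 1, 1, 1, 2, 0, 3, 0, 3, 3, 3, 2, 0, 0, 3, 1, 1, 1, 2, 0, 3, 0, 3, 3, 3, 0, 3, 3, 0, 3, 2, 0, 0, 3, 1, 1, 1, 2, 0, 3, 0, 3, 3, 3, 0, 0, 2, 2]],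
   [[0, 0, 3, 2, 0, 0, 3, 1, 1, 1, 2, 0, 3, 0, 3, 3, 3, 1, 2, 2, 2, 1, 2, 1, 3, 0, 0, 0, 2, 1, 1, 3, 0, 3, 2, 2, 2, 1, 2, 1, 3, 0, 0, 0, 2, 1, 1, 3, 2, 2, 2, 1, 2, 1, 3, 0, 0, 0, 2, 1, 1, 3, 2, 2, 2, 2, 2, 1, 2, 1, 3, 0, 0, 0, 2, 1, 1, 3, 1, 2, 2, 2, 1, 2, 1, 3, 0, 0, 0, 2, 1, 1, 3, 2], [0, 2, 0, 0, 3, 1, 1, 1, 2, 0, 3, 0, 3, 3, 3, 1, 2, 2, 0, 0, 3, 1, 1, 1, 2, 0, 3, 0, 3, 3, 3, 1, 2, 2, 0, 3, 2, 2, 2, 1, 2, 1, 3, 0, 0, 0, 2, 1, 1, 3, 3, 0, 3, 2, 0, 0, 3, 1, 1, 1, 2, 0, 3, 0, 3, 3, 3, 2], [0, 0, 3, 2, 2, 2, 1, 2, 1, 3, 0, 0, 0, 2, 1, 1, 3, 2, 1, 2, 2, 0, 0, 3, 1, 1, 1, 2, 0, 3, 0, 3, 3, 3, 2, 1, 3, 3, 0, 2,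 2, 2, 1, 2, 1, 3, 0, 0, 0, 2, 1, 1, 3, 3, 2, 2, 2, 1, 2, 1, 3, 0, 0, 0, 2, 1, 1, 3], [0, 0, 2, 2, 0, 0, 3, 1, 1, 1, 2, 0, 3, 0, 3, 3, 3, 2, 0, 2, 1, 1, 2, 2, 2, 0, 0, 3, 1, 1, 1, 2, 0, 3, 0, 3, 3, 3, 2, 2, 0, 0, 3, 1, 1, 1, 2, 0, 3, 0, 3, 3, 3, 0, 3], [0, 0, 2, 2, 2, 2, 1, 2, 1, 3, 0, 0, 0, 2, 1, 1, 3, 1, 2, 2, 2, 1, 2, 1, 3, 0, 0, 0, 2, 1, 1, 3, 3, 3, 2, 0, 0, 3, 1, 1, 1, 2, 0, 3, 0, 3, 3, 3, 2, 0, 0, 3, 1, 1, 1, 2, 0, 3, 0, 3, 3, 3, 2, 0, 0, 3, 1, 1, 1, 2, 0, 3, 0, 3, 3, 3, 3, 1, 1, 2], [0, 2, 1, 2, 2, 0, 0, 3, 1, 1, 1, 2, 0, 3, 0, 3, 3, 3, 2, 2, 0, 0, 3, 1, 1, 1, 2, 0, 3, 0, 3, 3, 3, 3, 3, 0, 2, 1, 3, 3,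 2, 2, 2, 1, 2, 1, 3, 0, 0, 0, 2, 1, 1, 3, 2, 2, 2, 1, 2, 1, 3, 0, 0, 0, 2, 1, 1, 3], [0, 0, 2, 0, 0, 3, 1, 1, 1, 2, 0, 3, 0, 3, 3, 3, 2, 2, 2, 2, 1, 2, 1, 3, 0, 0, 0, 2, 1, 1, 3, 2, 2, 2, 2, 1, 2, 1, 3, 0, 0, 0, 2, 1, 1, 3, 2, 2, 2, 1, 2, 1, 3, 0, 0, 0, 2, 1, 1, 3, 2, 1, 2, 2, 2, 2, 1, 2, 1, 3, 0, 0, 0, 2, 1, 1, 3, 0, 3, 0, 2], [0, 2, 1, 2, 0, 0, 3, 1, 1, 1, 2, 0, 3, 0, 3, 3, 3, 0, 2, 2, 2, 2, 1, 2, 1, 3, 0, 0, 0, 2, 1, 1, 3, 2, 2, 2, 2, 1, 2, 1, 3, 0, 0, 0, 2, 1, 1, 3, 2, 2, 2, 1, 2, 1, 3, 0, 0, 0, 2, 1, 1, 3, 2, 1, 2, 2, 2, 2, 1, 2, 1, 3, 0, 0, 0, 2, 1, 1, 3, 0, 3]],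
   [[0, 2, 2, 2, 1, 2, 1, 3, 0, 0, 0, 2, 1, 1, 3, 2, 1, 2, 0, 0, 3, 1, 1, 1, 2, 0, 3, 0, 3, 3, 3, 3, 3, 2, 0, 0, 3, 1, 1, 1, 2, 0, 3, 0, 3, 3, 3, 1, 2, 2, 0, 0, 3, 1, 1, 1, 2, 0, 3, 0, 3, 3, 3, 1, 2, 0, 0, 3, 1, 1, 1, 2, 0, 3, 0, 3, 3, 3, 2, 2, 2, 2, 2, 1, 2, 1, 3, 0, 0, 0, 2, 1, 1, 3], [0, 0, 3, 1, 2, 2, 2, 1, 2, 1, 3, 0, 0, 0, 2, 1, 1, 3, 2, 2, 1, 1, 2, 2, 2, 1, 2, 1, 3, 0, 0, 0, 2, 1, 1, 3, 2, 1, 2, 2, 2, 2, 1, 2, 1, 3, 0, 0, 0, 2, 1, 1, 3, 1, 2], [0, 2, 0, 0, 3, 1, 1, 1, 2, 0, 3, 0, 3, 3, 3, 1, 2, 2, 2, 2, 1, 2, 1, 3, 0, 0, 0, 2, 1, 1, 3, 3, 2, 2, 2, 1, 2, 1, 3, 0, 0, 0, 2, 1, 1, 3, 1, 3, 2, 2, 2, 1, 2,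 1, 3, 0, 0, 0, 2, 1, 1, 3, 3, 3, 3, 2, 0, 0, 3, 1, 1, 1, 2, 0, 3, 0, 3, 3, 3, 3, 3], [0, 2, 2, 2, 2, 1, 2, 1, 3, 0, 0, 0, 2, 1, 1, 3, 2, 1, 2, 2, 2, 1, 2, 1, 3, 0, 0, 0, 2, 1, 1, 3, 2, 2, 2, 2, 1, 2, 1, 3, 0, 0, 0, 2, 1, 1, 3, 2, 2, 2, 2, 1, 2, 1, 3, 0, 0, 0, 2, 1, 1, 3, 0, 2, 2, 0, 3, 2, 2, 2, 1, 2, 1, 3, 0, 0, 0, 2, 1, 1, 3], [0, 0, 2, 2, 2, 2, 2, 1, 2, 1, 3, 0, 0, 0, 2, 1, 1, 3, 2, 2, 2, 2, 0, 0, 3, 1, 1, 1, 2, 0, 3, 0, 3, 3, 3, 2, 0, 2, 0, 0, 3, 1, 1, 1, 2, 0, 3, 0, 3, 3, 3, 2, 2, 0, 0, 3, 1, 1, 1, 2, 0, 3, 0, 3, 3, 3, 3, 2, 2, 2, 1, 2, 1, 3, 0, 0, 0, 2, 1, 1, 3], [0, 2, 0, 2, 2, 2, 2, 1, 2, 1, 3, 0, 0,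 0, 2, 1, 1, 3, 2, 2, 2, 2, 1, 2, 1, 3, 0, 0, 0, 2, 1, 1, 3, 2, 1, 3, 1, 3, 3, 2, 0, 0, 3, 1, 1, 1, 2, 0, 3, 0, 3, 3, 3, 3, 2, 0, 0, 3, 1, 1, 1, 2, 0, 3, 0, 3, 3, 3], [0, 2, 0, 2, 2, 2, 2, 1, 2, 1, 3, 0, 0, 0, 2, 1, 1, 3, 2, 2, 2, 2, 1, 2, 1, 3, 0, 0, 0, 2, 1, 1, 3, 2, 2, 0, 2, 0, 3, 2, 0, 0, 3, 1, 1, 1, 2, 0, 3, 0, 3, 3, 3, 3, 2, 0, 0, 3, 1, 1, 1, 2, 0, 3, 0, 3, 3, 3]],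
   [[0, 2, 2, 2, 1, 2, 1, 3, 0, 0, 0, 2, 1, 1, 3, 2, 0, 3, 3, 2, 0, 0, 3, 1, 1, 1, 2, 0, 3, 0, 3, 3, 3, 2, 0, 0, 3, 1, 1, 1, 2, 0, 3, 0, 3, 3, 3, 3, 3, 2, 2, 2, 1, 2, 1, 3, 0, 0, 0, 2, 1, 1, 3, 3, 2, 0, 0, 3, 1, 1, 1, 2, 0, 3, 0, 3, 3, 3, 2, 0, 3], [0, 0, 2, 0, 0, 3, 1, 1, 1, 2, 0, 3, 0, 3, 3, 3, 0, 2, 2, 2, 1, 2, 1, 3, 0, 0, 0, 2, 1, 1, 3, 1, 2, 2, 2, 1, 2, 1, 3, 0, 0, 0, 2, 1, 1, 3, 1, 2, 0, 0, 3, 1, 1, 1, 2, 0, 3, 0, 3, 3, 3], [0, 0, 0, 0, 0, 0, 0, 0, 0, 0, 0], [0, 3, 1, 3, 0, 3, 1, 3, 0, 2, 1, 1, 1, 3, 0, 2, 0, 0, 0, 3, 1, 2, 0, 2, 1, 2, 0, 2, 1, 3, 3, 3, 3], [0, 0, 5, 2, 1, 4, 2, 5, 3, 5, 5, 0, 4, 4,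 2, 4, 3, 5, 0, 3, 4, 1, 1, 5], [0, 4, 0, 4, 0, 4, 0, 4, 0, 4, 0, 4, 0, 4, 0, 4, 0, 4, 0, 4, 0, 4, 0, 4], [4, 3, 0, 2, 0, 2, 2, 5, 1, 3, 3, 1, 3, 1, 2, 0, 4, 3, 0, 2, 0, 2, 2, 5, 1, 3, 3, 1, 3, 1, 2, 0, 4, 3, 0, 2, 0, 2, 2, 5, 1, 3, 3, 1, 3, 1, 2, 0, 4, 3, 0, 2, 0, 2, 2, 5, 1, 3, 3, 1, 3, 1, 2, 0, 4, 3, 0, 2, 0, 2, 2, 5, 1, 3, 3, 1, 3, 1, 2, 0, 4, 3, 0, 2, 0, 2, 2, 5, 1, 3, 3, 1, 3, 1, 2, 0], [0, 0, 0, 5, 3, 0, 0, 3, 0, 0, 0, 5, 3, 0, 0, 3, 0, 0, 0, 5, 3, 0, 0, 3, 0, 0, 0, 5, 3, 0, 0, 3, 0, 0, 0, 5, 3, 0, 0, 3, 0, 0, 0, 5, 3, 0, 0, 3, 0, 0, 0, 5, 3, 0, 0, 3, 0, 0, 0, 5, 3, 0, 0, 3, 0, 0, 0, 5, 3, 0, 0, 3, 0,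 0, 0, 5, 3, 0, 0, 3, 0, 0, 0, 5, 3, 0, 0, 3, 0, 0, 0, 5, 3, 0, 0, 3], [4, 1, 2, 1, 3, 1, 3, 3, 0, 5, 1, 1, 2, 2, 0, 2, 0, 3, 0, 0, 4, 1, 2, 1, 3, 1, 3, 3, 0, 5, 1, 1, 2, 2, 0, 2, 0, 3, 0, 0, 4, 1, 2, 1, 3, 1, 3, 3, 0, 5, 1, 1, 2, 2, 0, 2, 0, 3, 0, 0, 4, 1, 2, 1, 3, 1, 3, 3, 0, 5, 1, 1, 2, 2, 0, 2, 0, 3, 0, 0, 4, 1, 2, 1, 3, 1, 3, 3, 0, 5, 1, 1, 2, 2, 0, 2, 0, 3, 0, 0, 4, 1, 2, 1, 3, 1, 3, 3, 0, 5, 1, 1, 2, 2, 0, 2, 0, 3, 0, 0]],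
   [[4, 3, 1, 1, 3, 1, 3, 0, 2, 5, 1, 3, 1, 2, 0, 2, 0, 0, 2, 0, 4, 3, 1, 1, 3, 1, 3, 0, 2, 5, 1, 3, 1, 2, 0, 2, 0, 0, 2, 0, 4, 3, 1, 1, 3, 1, 3, 0, 2, 5, 1, 3, 1, 2, 0, 2, 0, 0, 2, 0, 4, 3, 1, 1, 3, 1, 3, 0, 2, 5, 1, 3, 1, 2, 0, 2, 0, 0, 2, 0, 4, 3, 1, 1, 3, 1, 3, 0, 2, 5, 1, 3, 1, 2, 0, 2, 0, 0, 2, 0, 4, 3, 1, 1, 3, 1, 3, 0, 2, 5, 1, 3, 1, 2, 0, 2, 0, 0, 2, 0], [0, 2, 0, 2, 2, 1, 2, 5, 0, 2, 1, 3, 4, 3, 3, 1, 3, 3, 0, 2, 0, 2, 2, 1, 2, 5, 0, 2, 1, 3, 4, 3, 3, 1, 3, 3, 0, 2, 0, 2, 2, 1, 2, 5, 0, 2, 1, 3, 4, 3, 3, 1, 3, 3, 0, 2, 0, 2, 2, 1, 2, 5, 0, 2, 1, 3, 4, 3, 3, 1, 3, 3, 0, 2, 0, 2, 2, 1, 2, 5, 0, 2,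 1, 3, 4, 3, 3, 1, 3, 3, 0, 2, 0, 2, 2, 1, 2, 5, 0, 2, 1, 3, 4, 3, 3, 1, 3, 3], [4, 0, 2, 0, 3, 1, 2, 1, 3, 5, 3, 0, 3, 3, 1, 3, 0, 2, 2, 1, 1, 4, 0, 2, 0, 3, 1, 2, 1, 3, 5, 3, 0, 3, 3, 1, 3, 0, 2, 2, 1, 1, 4, 0, 2, 0, 3, 1, 2, 1, 3, 5, 3, 0, 3, 3, 1, 3, 0, 2, 2, 1, 1, 4, 0, 2, 0, 3, 1, 2, 1, 3, 5, 3, 0, 3, 3, 1, 3, 0, 2, 2, 1, 1, 4, 0, 2, 0, 3, 1, 2, 1, 3, 5, 3, 0, 3, 3, 1, 3, 0, 2, 2, 1, 1, 4, 0, 2, 0, 3, 1, 2, 1, 3, 5, 3, 0, 3, 3, 1, 3, 0, 2, 2, 1, 1], [4, 1, 2, 2, 2, 1, 1, 2, 0, 0, 3, 5, 0, 3, 0, 2, 1, 2, 2, 2, 1, 1, 4, 1, 2, 2, 2, 1, 1, 2, 0, 0, 3, 5, 0, 3, 0, 2, 1, 2, 2, 2, 1, 1, 4, 1, 2, 2, 2, 1, 1,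 2, 0, 0, 3, 5, 0, 3, 0, 2, 1, 2, 2, 2, 1, 1, 4, 1, 2, 2, 2, 1, 1, 2, 0, 0, 3, 5, 0, 3, 0, 2, 1, 2, 2, 2, 1, 1, 4, 1, 2, 2, 2, 1, 1, 2, 0, 0, 3, 5, 0, 3, 0, 2, 1, 2, 2, 2, 1, 1, 4, 1, 2, 2, 2, 1, 1, 2, 0, 0, 3, 5, 0, 3, 0, 2, 1, 2, 2, 2, 1, 1]],
   [[4, 2, 0, 3, 3, 0, 0, 0, 3, 1, 2, 5, 3, 3, 0, 0, 0, 2, 0, 3, 0, 2, 4, 2, 0, 3, 3, 0, 0, 0, 3, 1, 2, 5, 3, 3, 0, 0, 0, 2, 0, 3, 0, 2, 4, 2, 0, 3, 3, 0, 0, 0, 3, 1, 2, 5, 3, 3, 0, 0, 0, 2, 0, 3, 0, 2, 4, 2, 0, 3, 3, 0, 0, 0, 3, 1, 2, 5, 3, 3, 0, 0, 0, 2, 0, 3, 0, 2, 4, 2, 0, 3, 3, 0, 0, 0, 3, 1, 2, 5, 3, 3, 0, 0, 0, 2, 0, 3, 0, 2, 4, 2, 0, 3, 3, 0, 0, 0, 3, 1, 2,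 5, 3, 3, 0, 0, 0, 2, 0, 3, 0, 2], [0, 2, 0, 2, 5, 3, 1, 2, 0, 4, 3, 1, 3, 4, 3, 0, 2, 4, 0, 2, 0, 2, 5, 3, 1, 2, 0, 4, 3, 1, 3, 4, 3, 0, 2, 4, 0, 2, 0, 2, 5, 3, 1, 2, 0, 4, 3, 1, 3, 4, 3, 0, 2, 4, 0, 2, 0, 2, 5, 3, 1, 2, 0, 4, 3, 1, 3, 4, 3, 0, 2, 4, 0, 2, 0, 2, 5, 3, 1, 2, 0, 4, 3, 1, 3, 4, 3, 0, 2, 4, 0, 2, 0, 2, 5, 3, 1, 2, 0, 4, 3, 1, 3, 4, 3, 0, 2, 4], [0, 2, 0, 3, 3, 5, 0, 3, 5, 2, 1, 3, 5, 2, 5, 2, 5, 2, 0, 2, 0, 3, 3, 5, 0, 3, 5, 2, 1, 3, 5, 2, 5, 2, 5, 2, 0, 2, 0, 3, 3, 5, 0, 3, 5, 2, 1, 3, 5, 2, 5, 2, 5, 2, 0, 2, 0, 3, 3, 5, 0, 3, 5, 2, 1, 3, 5, 2, 5, 2, 5, 2, 0, 2, 0, 3, 3, 5, 0, 3, 5, 2, 1, 3,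 5, 2, 5, 2, 5, 2, 0, 2, 0, 3, 3, 5, 0, 3, 5, 2, 1, 3, 5, 2, 5, 2, 5, 2]]]

theorem PE_eq : PE = peC.flatten := by
  decide +kernel

theorem peC_length : peC.length = 33 := by
  decide +kernel

theorem forall_PE {P : List ℕ → Prop} (h : ∀ j < 33, ∀ w ∈ peC.getD j [], P w) :
    ∀ w ∈ PE, P w := by
  intro w hw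
  rw [PE_eq] at hw
  obtain ⟨l, hl, hwl⟩ := List.mem_flatten.mp hw
  obtain ⟨j, hj, rfl⟩ := List.getElem_of_mem hl
  have hj' : j < 33 := by rw [← peC_length]; exact hj
  have := h j hj' w
  rw [List.getD_eq_getElem _ _ hj] at this
  exact this hwl

end Cfsg.Agent.Lib.H17.U62M
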