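import Cfsg.Agent.Lib.H17.U62M.M1Tabs
import Cfsg.Agent.Lib.H17.U62M.PEChunks

set_option autoImplicit false
set_option maxRecDepth 100000

/-! # The monomial model M1: the exact relators, part 1 (generated) -/

namespace Cfsg.Agent.Lib.H17.U62M.M1

open Cfsg.Agent.Lib.H17.MonoModel Cfsg.Agent.Lib.H17.U62M

theorem ex8 : ∀ w ∈ peC.getD 8 [], checkWordM (w.map tabs) 0 672 = true := by
  decide +kernel

theorem ex9 : ∀ w ∈ peC.getD 9 [], checkWordM (w.map tabs) 0 672 = true := by
  decide +kernel

theorem ex10 : ∀ w ∈ peC.getD 10 [], checkWordM (w.map tabs) 0 672 = true := by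
  decide +kernel

theorem ex11 : ∀ w ∈ peC.getD 11 [], checkWordM (w.map tabs) 0 672 = true := by
  decide +kernel

theorem ex12 : ∀ w ∈ peC.getD 12 [], checkWordM (w.map tabs) 0 672 = true := by
  decide +kernel

theorem ex13 : ∀ w ∈ peC.getD 13 [], checkWordM (w.map tabs) 0 672 = true := by
  decide +kernel

theorem ex14 : ∀ w ∈ peC.getD 14 [], checkWordM (w.map tabs) 0 672 = true := by
  decide +kernel

theorem ex15 : ∀ w ∈ peC.getD 15 [], checkWordM (w.map tabs) 0 672 = true := by
  decide +kernel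

end Cfsg.Agent.Lib.H17.U62M.M1
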