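import Cfsg.Agent.Lib.H17.U62M.M1Tabs
import Cfsg.Agent.Lib.H17.U62M.PEChunks

set_option autoImplicit false
set_option maxRecDepth 100000

/-! # The monomial model M1: the exact relators, part 2 (generated) -/

namespace Cfsg.Agent.Lib.H17.U62M.M1

open Cfsg.Agent.Lib.H17.MonoModel Cfsg.Agent.Lib.H17.U62M

theorem ex16 : ∀ w ∈ peC.getD 16 [], checkWordM (w.map tabs) 0 672 = true := by
  decide +kernel

theorem ex17 : ∀ w ∈ peC.getD 17 [], checkWordM (w.map tabs) 0 672 = true := by
  decide +kernel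

theorem ex18 : ∀ w ∈ peC.getD 18 [], checkWordM (w.map tabs) 0 672 = true := by
  decide +kernel

theorem ex19 : ∀ w ∈ peC.getD 19 [], checkWordM (w.map tabs) 0 672 = true := by
  decide +kernel

theorem ex20 : ∀ w ∈ peC.getD 20 [], checkWordM (w.map tabs) 0 672 = true := by
  decide +kernel

theorem ex21 : ∀ w ∈ peC.getD 21 [], checkWordM (w.map tabs) 0 672 = true := by
  decide +kernel

theorem ex22 : ∀ w ∈ peC.getD 22 [], checkWordM (w.map tabs) 0 672 = true := by
  decide +kernel

theorem ex23 : ∀ w ∈ peC.getD 23 [], checkWordM (w.map tabs) 0 672 = true := by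
  decide +kernel

end Cfsg.Agent.Lib.H17.U62M.M1
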