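import Cfsg.Agent.Lib.H17.U62M.M2Tabs
import Cfsg.Agent.Lib.H17.U62M.PEChunks

set_option autoImplicit false
set_option maxRecDepth 100000

/-! # The monomial model M2: the exact relators, part 0 (generated) -/

namespace Cfsg.Agent.Lib.H17.U62M.M2

open Cfsg.Agent.Lib.H17.MonoModel Cfsg.Agent.Lib.H17.U62M

theorem ex0 : ∀ w ∈ peC.getD 0 [], checkWordM (w.map tabs) 0 672 = true := by
  decide +kernel

theorem ex1 : ∀ w ∈ peC.getD 1 [], checkWordM (w.map tabs) 0 672 = true := by
  decide +kernel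

theorem ex2 : ∀ w ∈ peC.getD 2 [], checkWordM (w.map tabs) 0 672 = true := by
  decide +kernel

theorem ex3 : ∀ w ∈ peC.getD 3 [], checkWordM (w.map tabs) 0 672 = true := by
  decide +kernel

theorem ex4 : ∀ w ∈ peC.getD 4 [], checkWordM (w.map tabs) 0 672 = true := by
  decide +kernel

theorem ex5 : ∀ w ∈ peC.getD 5 [], checkWordM (w.map tabs) 0 672 = true := by
  decide +kernel

theorem ex6 : ∀ w ∈ peC.getD 6 [], checkWordM (w.map tabs) 0 672 = true := by
  decide +kernel

theorem ex7 : ∀ w ∈ peC.getD 7 [], checkWordM (w.map tabs) 0 672 = true := by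
  decide +kernel

end Cfsg.Agent.Lib.H17.U62M.M2
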