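import Cfsg.Agent.Lib.H17.U62M.M2Tabs
import Cfsg.Agent.Lib.H17.U62M.PEChunks

set_option autoImplicit false
set_option maxRecDepth 100000

/-! # The monomial model M2: the exact relators, part 3 (generated) -/

namespace Cfsg.Agent.Lib.H17.U62M.M2

open Cfsg.Agent.Lib.H17.MonoModel Cfsg.Agent.Lib.H17.U62M

theorem ex24 : ∀ w ∈ peC.getD 24 [], checkWordM (w.map tabs) 0 672 = true := by
  decide +kernel

theorem ex25 : ∀ w ∈ peC.getD 25 [], checkWordM (w.map tabs) 0 672 = true := by
  decide +kernel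

theorem ex26 : ∀ w ∈ peC.getD 26 [], checkWordM (w.map tabs) 0 672 = true := by
  decide +kernel

theorem ex27 : ∀ w ∈ peC.getD 27 [], checkWordM (w.map tabs) 0 672 = true := by
  decide +kernel

theorem ex28 : ∀ w ∈ peC.getD 28 [], checkWordM (w.map tabs) 0 672 = true := by
  decide +kernel

theorem ex29 : ∀ w ∈ peC.getD 29 [], checkWordM (w.map tabs) 0 672 = true := by
  decide +kernel

theorem ex30 : ∀ w ∈ peC.getD 30 [], checkWordM (w.map tabs) 0 672 = true := by
  decide +kernel

theorem ex31 : ∀ w ∈ peC.getD 31 [], checkWordM (w.map tabs) 0 672 = true := by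
  decide +kernel

end Cfsg.Agent.Lib.H17.U62M.M2
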