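import Cfsg.Agent.Lib.H17.U62M.M2Ex0
import Cfsg.Agent.Lib.H17.U62M.M2Ex1
import Cfsg.Agent.Lib.H17.U62M.M2Ex2
import Cfsg.Agent.Lib.H17.U62M.M2Ex3
import Cfsg.Agent.Lib.H17.U62M.M2Ex4
import Cfsg.Agent.Lib.H16.U62M.Glue2

set_option autoImplicit false
set_option maxRecDepth 100000

/-! # The monomial model M2: word checks (generated) -/

namespace Cfsg.Agent.Lib.H17.U62M.M2

open Cfsg.Agent.Lib.H17.MonoModel Cfsg.Agent.Lib.H16.U62M Cfsg.Agent.Lib.H17.U62M

theorem range_ok : Range tabs 672 := by
  intro x p hp
  by_cases hx : x < 6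
  · interval_cases x
    · exact checkRangeM_sound _ _ _ range0 p hp
    · exact checkRangeM_sound _ _ _ range1 p hp
    · exact checkRangeM_sound _ _ _ range2 p hp
    · exact checkRangeM_sound _ _ _ range3 p hp
    · exact checkRangeM_sound _ _ _ range4 p hp
    · exact checkRangeM_sound _ _ _ range5 p hp
  · have : tabs x = 0 := by
      unfold tabs
      split <;> first | omega | rfl
    rw [this]
    have : lkM 0 p = 0 := by unfold lkM; simp
    rw [this]; norm_num

theorem pchk0 : checkWordM (List.map tabs [0, 1]) 0 672 = true := by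
  decide +kernel

theorem pchk1 : checkWordM (List.map tabs [1, 0]) 0 672 = true := by
  decide +kernel

theorem pchk2 : checkWordM (List.map tabs [2, 3]) 0 672 = true := by
  decide +kernel

theorem pchk3 : checkWordM (List.map tabs [3, 2]) 0 672 = true := by
  decide +kernel

theorem pchk4 : checkWordM (List.map tabs [4, 5]) 0 672 = true := by
  decide +kernel

theorem pchk5 : checkWordM (List.map tabs [5, 4]) 0 672 = true := by
  decide +kernel

theorem pairs_ok : PairsOK tabs 672 := by
  intro x hx
  interval_cases x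
  · exact pchk0
  · exact pchk1
  · exact pchk2
  · exact pchk3
  · exact pchk4
  · exact pchk5

theorem exact_chk : ∀ w ∈ PE, checkWordM (w.map tabs) 0 672 = true := by
  apply forall_PE
  intro j hj
  interval_cases j
  · exact ex0
  · exact ex1
  · exact ex2
  · exact ex3
  · exact ex4
  · exact ex5
  · exact ex6
  · exact ex7
  · exact ex8
  · exact ex9
  · exact ex10
  · exact ex11
  · exact ex12
  · exact ex13
  · exact ex14
  · exact ex15
  · exact ex16
  · exact ex17
  · exact ex18
  · exact ex19
  · exact ex20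
  · exact ex21
  · exact ex22
  · exact ex23
  · exact ex24
  · exact ex25
  · exact ex26
  · exact ex27
  · exact ex28
  · exact ex29
  · exact ex30
  · exact ex31
  · exact ex32

/-- the shift of a central word -/
def zval (w : List ℕ) : ℕ := if w ∈ [[4, 1, 2, 2, 2, 1, 1, 2, 0, 0, 3, 5, 0, 3, 0, 2, 1, 2, 2, 2, 1, 1], [0, 2, 0, 3, 3, 5, 0, 3, 5, 2, 1, 3, 5, 2, 5, 2, 5, 2]] then 6 else 0

theorem central_chk' : ∀ w ∈ ZL, checkWordM (w.map tabs) (zval w) 672 = true := by
  decide +kernel

theorem central_chk : ∀ w ∈ ZL, ∃ e, checkWordM (w.map tabs) e 672 = true :=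
  fun w hw => ⟨_, central_chk' w hw⟩

theorem x0_chk : checkWordM (List.map tabs x0W) 0 672 = true := by
  decide +kernel

theorem x8_chk : checkWordM (List.map tabs x8W) 0 672 = true := by
  decide +kernel

theorem w10_chk : checkWordM (List.map tabs w10W) 6 672 = true := by
  decide +kernel

theorem letters_lt : ∀ w ∈ PE ++ ZL, ∀ x ∈ w, x < 6 := by
  decide +kernel

end Cfsg.Agent.Lib.H17.U62M.M2
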