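import Cfsg.Agent.Lib.H17.U62M.M1Sum
import Cfsg.Agent.Lib.H17.U62M.M2Sum
import Cfsg.Agent.Lib.H16.U62M.Sigs

set_option autoImplicit false

/-!
# The two monomial models of the cover of `U6(2)` (helper17, pieces (M1) (M2) of S2091)

Permutations of `Fin 672 × ZMod 12` given by packed tables; every word of `PE` acts trivially, the
words of `ZL` act as shifts.  In the first model `x0W`, `x8W`, `w10W` have shifts `4, 6, 0`, in the
second `0, 0, 6`.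
-/

namespace Cfsg.Agent.Lib.H17.U62M

open Cfsg.Agent.Lib.H17.MonoModel Cfsg.Agent.Lib.H16.U62M
open Cfsg.Agent.Lib.H12.J3M (gl3 wv3)

section generic

variable {tabs : ℕ → ℕ} (hr : Range tabs 672) (hp : PairsOK tabs 672)

theorem gl3_sgU (x : ℕ) (hx : x < 6) :
    gl3 (σM hr hp 0)⁻¹ (σM hr hp 2)⁻¹ (σM hr hp 4)⁻¹ x = (σM hr hp x)⁻¹ := by
  have h0 : σM hr hp 1 = (σM hr hp 0)⁻¹ := σM_inv hr hp 0 (by norm_num)
  have h2 : σM hr hp 3 = (σM hr hp 2)⁻¹ := σM_inv hr hp 2 (by norm_num)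
  have h4 : σM hr hp 5 = (σM hr hp 4)⁻¹ := σM_inv hr hp 4 (by norm_num)
  interval_cases x
  · rfl
  · change (σM hr hp 0)⁻¹⁻¹ = (σM hr hp 1)⁻¹
    rw [h0]
  · rfl
  · change (σM hr hp 2)⁻¹⁻¹ = (σM hr hp 3)⁻¹
    rw [h2]
  · rfl
  · change (σM hr hp 4)⁻¹⁻¹ = (σM hr hp 5)⁻¹
    rw [h4]

theorem wv3_sgU (w : List ℕ) (hw : ∀ x ∈ w, x < 6) (e : ℕ)
    (h : checkWordM (w.map tabs) e 672 = true) :
    wv3 (σM hr hp 0)⁻¹ (σM hr hp 2)⁻¹ (σM hr hp 4)⁻¹ w = (shiftP 672 (e : ZMod 12))⁻¹ := by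
  rw [← word_perm_eq hr hp w hw e h]
  unfold wv3
  congr 1
  apply List.map_congr_left
  intro x hx
  exact gl3_sgU hr hp x (hw x hx)

theorem sgU_exact (hlt : ∀ w ∈ PE ++ ZL, ∀ x ∈ w, x < 6)
    (hex : ∀ w ∈ PE, checkWordM (w.map tabs) 0 672 = true) :
    ∀ w ∈ PE, wv3 (σM hr hp 0)⁻¹ (σM hr hp 2)⁻¹ (σM hr hp 4)⁻¹ w = 1 := by
  intro w hw
  rw [wv3_sgU hr hp w (hlt w (List.mem_append_left _ hw)) 0 (hex w hw)]
  simp [shiftP_zero]

theorem sgU_central (hlt : ∀ w ∈ PE ++ ZL, ∀ x ∈ w, x < 6)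
    (hcen : ∀ w ∈ ZL, ∃ e, checkWordM (w.map tabs) e 672 = true) :
    ∀ w ∈ ZL,
      Commute (wv3 (σM hr hp 0)⁻¹ (σM hr hp 2)⁻¹ (σM hr hp 4)⁻¹ w) (σM hr hp 0)⁻¹ ∧
      Commute (wv3 (σM hr hp 0)⁻¹ (σM hr hp 2)⁻¹ (σM hr hp 4)⁻¹ w) (σM hr hp 2)⁻¹ ∧
      Commute (wv3 (σM hr hp 0)⁻¹ (σM hr hp 2)⁻¹ (σM hr hp 4)⁻¹ w) (σM hr hp 4)⁻¹ := by
  intro w hw
  obtain ⟨e, he⟩ := hcen w hw
  have hl : ∀ x ∈ w, x < 6 := hlt w (List.mem_append_right _ hw)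
  rw [wv3_sgU hr hp w hl e he]
  have key : ∀ x, x < 6 →
      Commute (shiftP 672 (e : ZMod 12))⁻¹ (σM hr hp x)⁻¹ := by
    intro x hx
    exact (shiftP_comm hr hp x hx (e : ZMod 12)).inv_inv
  exact ⟨key 0 (by norm_num), key 2 (by norm_num), key 4 (by norm_num)⟩

end generic

theorem shiftP_mulU (a b : ZMod 12) : shiftP 672 a * shiftP 672 b = shiftP 672 (a + b) := by
  apply Equiv.ext
  intro q
  apply Prod.ext
  · rfl
  · change q.2 + b + a = q.2 + (a + b)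
    abel

theorem shiftP_eq_oneU (e : ZMod 12) (h : shiftP 672 e = 1) : e = 0 := by
  have := congrArg (fun f : Equiv.Perm (Fin 672 × ZMod 12) => (f (⟨0, by norm_num⟩, 0)).2) h
  simp only [shiftP_apply, Equiv.Perm.coe_one, id_eq] at this
  change (0 : ZMod 12) + e = 0 at this
  simpa using this

/-- (M1) -/
theorem model1 : Model1 := by
  refine ⟨Equiv.Perm (Fin 672 × ZMod 12), inferInstance,
    (σM M1.range_ok M1.pairs_ok 0)⁻¹, (σM M1.range_ok M1.pairs_ok 2)⁻¹,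
    (σM M1.range_ok M1.pairs_ok 4)⁻¹,
    sgU_exact _ _ M1.letters_lt M1.exact_chk, sgU_central _ _ M1.letters_lt M1.central_chk, ?_, ?_⟩
  · intro i hi h
    rw [wv3_sgU M1.range_ok M1.pairs_ok x0W (by decide) 4 M1.x0_chk,
      wv3_sgU M1.range_ok M1.pairs_ok x8W (by decide) 6 M1.x8_chk, inv_inv, inv_inv,
      shiftP_mulU, shiftP_pow] at h
    have h2 := shiftP_eq_oneU _ h
    interval_cases i
    · rfl
    all_goals exact absurd h2 (by decide)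
  · rw [wv3_sgU M1.range_ok M1.pairs_ok w10W (by decide) 0 M1.w10_chk]
    simp [shiftP_zero]

/-- (M2) -/
theorem model2 : Model2 := by
  refine ⟨Equiv.Perm (Fin 672 × ZMod 12), inferInstance,
    (σM M2.range_ok M2.pairs_ok 0)⁻¹, (σM M2.range_ok M2.pairs_ok 2)⁻¹,
    (σM M2.range_ok M2.pairs_ok 4)⁻¹,
    sgU_exact _ _ M2.letters_lt M2.exact_chk, sgU_central _ _ M2.letters_lt M2.central_chk, ?_, ?_⟩
  · rw [wv3_sgU M2.range_ok M2.pairs_ok x0W (by decide) 0 M2.x0_chk,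
      wv3_sgU M2.range_ok M2.pairs_ok x8W (by decide) 0 M2.x8_chk]
    simp [shiftP_zero]
  · rw [wv3_sgU M2.range_ok M2.pairs_ok w10W (by decide) 6 M2.w10_chk]
    intro h
    have h2 := shiftP_eq_oneU _ (inv_eq_one.mp h)
    exact absurd h2 (by decide)

end Cfsg.Agent.Lib.H17.U62M
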